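import Cfsg.Agent.Lib.PSL2.Out
import Cfsg.Agent.Lib.Chev.Aut.FieldCyclic
import Cfsg.Agent.Lib.GW.Reduction

/-!
The automorphism groups of the models: outer automorphisms of `PSL₂(q)` commute, elements of two-power
order of `S₇` have order at most four.
-/

set_option autoImplicit false
set_option linter.unusedSectionVars false

namespace CfsgLib.GWConseq.QDCentre

open Cfsg CfsgLib.PSL2
open scoped commutatorElement

variable {F : Type*} [Field F] [Fintype F]

local notation "PSL" => Matrix.ProjectiveSpecialLinearGroup (Fin 2) F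

theorem conj_range_normal {M : Type*} [Group M] : (MulAut.conj : M →* MulAut M).range.Normal := by
  refine ⟨fun x hx φ => ?_⟩
  obtain ⟨m, rfl⟩ := hx
  exact ⟨φ m, MulEquiv.ext fun y => by simp [MulAut.mul_apply, MulAut.conj_apply]⟩

/-- Commutators of automorphisms of `PSL₂(q)` are inner. -/
theorem commutator_mem_inner (φ χ : MulAut PSL) :
    ⁅φ, χ⁆ ∈ (MulAut.conj : PSL →* MulAut PSL).range := by
  classical
  obtain ⟨p, hp⟩ := CharP.exists F
  haveI := hp
  haveI : Fact p.Prime := ⟨CharP.char_is_prime F p⟩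
  haveI := conj_range_normal (M := PSL)
  set I := (MulAut.conj : PSL →* MulAut PSL).range
  set π := QuotientGroup.mk' I
  -- the diagonal part is central modulo the inner part
  have hdiag : ∀ α : MulAut PSL, fieldPart p α = 1 → α ∈ I ∨
      ∀ β : MulAut PSL, fieldPart p β = 1 → β ∉ I → α⁻¹ * β ∈ I := by
    intro α hα
    by_cases hI : α ∈ I
    · exact Or.inl hI
    refine Or.inr fun β hβ hβI => ?_
    obtain ⟨g, rfl⟩ := exists_of_fieldPart_eq_one p hα
    obtain ⟨g', rfl⟩ := exists_of_fieldPart_eq_one p hβ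
    obtain ⟨c, A, rfl⟩ := exists_dil_mul g
    obtain ⟨c', A', rfl⟩ := exists_dil_mul g'
    rw [map_mul, diagAut_toGL] at hI hβI ⊢
    rw [map_mul, diagAut_toGL, mul_inv_rev]
    rw [Subgroup.mul_mem_cancel_right I ⟨mk A, rfl⟩] at hI
    rw [Subgroup.mul_mem_cancel_right I ⟨mk A', rfl⟩] at hβI
    rw [mul_assoc, Subgroup.mul_mem_cancel_left I (inv_mem ⟨mk A, rfl⟩), ← mul_assoc,
      Subgroup.mul_mem_cancel_right I ⟨mk A', rfl⟩, ← map_inv, ← map_mul, ← map_inv, ← map_mul]
    have hc : c ∉ (powMonoidHom 2 : Fˣ →* Fˣ).range := fun h => hI (by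
      obtain ⟨x, hx⟩ := (dil_inner_iff c).2 h
      exact ⟨x, hx.symm⟩)
    have hc' : c' ∉ (powMonoidHom 2 : Fˣ →* Fˣ).range := fun h => hβI (by
      obtain ⟨x, hx⟩ := (dil_inner_iff c').2 h
      exact ⟨x, hx.symm⟩)
    obtain ⟨x, hx⟩ := (dil_inner_iff (c⁻¹ * c')).2 (by
      have h2 : (powMonoidHom 2 : Fˣ →* Fˣ).range.index = 2 := by
        have hle : (powMonoidHom 2 : Fˣ →* Fˣ).range.index ≤ 2 := by
          have h1 := (powMonoidHom 2 : Fˣ →* Fˣ).range.card_mul_index
          have h2 := (powMonoidHom 2 : Fˣ →* Fˣ).ker.card_mul_index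
          rw [Subgroup.index_ker] at h2
          have hk : Nat.card (powMonoidHom 2 : Fˣ →* Fˣ).ker ≤ 2 := by
            rw [Nat.card_eq_fintype_card, Fintype.card_subtype]
            refine le_trans (Finset.card_le_card fun a ha => ?_) (IsCyclic.card_pow_eq_one_le (α := Fˣ) two_pos)
            exact Finset.mem_filter.2 ⟨Finset.mem_univ _, MonoidHom.mem_ker.1 (Finset.mem_filter.1 ha).2⟩
          have hpos : 0 < Nat.card (powMonoidHom 2 : Fˣ →* Fˣ).range := Nat.card_pos
          nlinarith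
        have h0 : (powMonoidHom 2 : Fˣ →* Fˣ).range.index ≠ 0 := Subgroup.index_ne_zero_of_finite
        have h1 : (powMonoidHom 2 : Fˣ →* Fˣ).range.index ≠ 1 := fun h =>
          hc (by rw [Subgroup.index_eq_one.1 h]; exact Subgroup.mem_top c)
        omega
      exact (Subgroup.mul_mem_iff_of_index_two h2).2 (iff_of_false (fun h => hc (inv_mem_iff.1 h)) hc'))
    exact ⟨x, hx.symm⟩
  have hcent : ∀ α : MulAut PSL, fieldPart p α = 1 → ∀ β, Commute (π α) (π β) := by
    intro α hα β
    rcases hdiag α hα with h | h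
    · rw [show π α = 1 from (QuotientGroup.eq_one_iff α).2 h]
      exact Commute.one_left _
    · by_cases hαI : α ∈ I
      · rw [show π α = 1 from (QuotientGroup.eq_one_iff α).2 hαI]
        exact Commute.one_left _
      have h' := h (β * α * β⁻¹) (by rw [map_mul, map_mul, map_inv, hα, mul_one, mul_inv_cancel])
        (fun hm => hαI (by simpa [mul_assoc] using (inferInstance : I.Normal).conj_mem _ hm β⁻¹))
      have h'' : (π α)⁻¹ * (π β * π α * (π β)⁻¹) = 1 := by
        rw [← map_inv, ← map_inv, ← map_mul, ← map_mul, ← map_mul]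
        exact (QuotientGroup.eq_one_iff _).2 h'
      rw [inv_mul_eq_one, eq_mul_inv_iff_mul_eq] at h''
      exact h''
  haveI := CfsgLib.Chev.ringAut_cyclic_finite F
  haveI : IsCyclic (fieldPart (F := F) p).range :=
    isCyclic_of_injective (fieldPart (F := F) p).range.subtype (Subgroup.subtype_injective _)
  obtain ⟨⟨_, φ₀, rfl⟩, hgen⟩ := IsCyclic.exists_generator (α := (fieldPart (F := F) p).range)
  have hdec : ∀ α : MulAut PSL, ∃ (i : ℤ) (δ : MulAut PSL), fieldPart p δ = 1 ∧ α = φ₀ ^ i * δ := by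
    intro α
    obtain ⟨i, hi⟩ := Subgroup.mem_zpowers_iff.1 (hgen ⟨fieldPart p α, α, rfl⟩)
    have hi' : fieldPart p φ₀ ^ i = fieldPart p α := congrArg Subtype.val hi
    exact ⟨i, (φ₀ ^ i)⁻¹ * α, by rw [map_mul, map_inv, map_zpow, hi', inv_mul_cancel],
      (mul_inv_cancel_left _ _).symm⟩
  obtain ⟨i, δ, hδ, rfl⟩ := hdec φ
  obtain ⟨j, ε, hε, rfl⟩ := hdec χ
  refine (QuotientGroup.eq_one_iff _).1 ?_
  show π ⁅φ₀ ^ i * δ, φ₀ ^ j * ε⁆ = 1
  rw [map_commutatorElement, commutatorElement_eq_one_iff_commute, map_mul, map_mul]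
  refine (Commute.mul_left ?_ ?_)
  · refine Commute.mul_right ?_ (hcent ε hε _).symm
    rw [map_zpow, map_zpow]
    exact (Commute.refl _).zpow_zpow i j
  · exact hcent δ hδ _ |>.mul_right (hcent δ hδ _)

/-- An element of two-power order of `S₇` has order dividing four. -/
theorem perm_seven_pow_four (σ : Equiv.Perm (Fin 7)) {k : ℕ} (h : σ ^ 2 ^ k = 1) : σ ^ 4 = 1 := by
  refine orderOf_dvd_iff_pow_eq_one.1 ?_
  rw [← Equiv.Perm.lcm_cycleType, Multiset.lcm_dvd]
  intro n hn
  have h1 : n ∣ 2 ^ k := ((Equiv.Perm.dvd_of_mem_cycleType hn)).trans (orderOf_dvd_of_pow_eq_one h)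
  have h2 : n ≤ 7 := ((Equiv.Perm.le_card_support_of_mem_cycleType hn)).trans
    (le_trans (Finset.card_le_univ _) (by rw [Fintype.card_fin]))
  obtain ⟨i, -, rfl⟩ := (Nat.dvd_prime_pow Nat.prime_two).1 h1
  have : i ≤ 2 := by
    by_contra hc
    have := Nat.pow_le_pow_right two_pos (show 3 ≤ i by omega)
    omega
  exact Nat.pow_dvd_pow 2 this

end CfsgLib.GWConseq.QDCentre
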