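import Cfsg.Agent.Lib.GW.Conseq.QDCentre.Sylow
import Cfsg.Agent.S1215
import Cfsg.Agent.Lib.GW.Conseq.RankOne
import Cfsg.Agent.Lib.DihedralTransfer

/-!
A group with quasi-dihedral or wreathed Sylow 2-subgroups, trivial core and a normal subgroup of two-power
index with quaternion Sylow 2-subgroups: common facts.
-/

set_option autoImplicit false
set_option linter.unusedSectionVars false
set_option linter.style.haveILetI false

namespace CfsgLib.GWConseq.QDCentre

open Cfsg CfsgLib.GW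
open scoped commutatorElement

universe u

variable {H : Type u} [Group H] [Finite H]

/-- The hypotheses of the centraliser of an involution, modulo its core. -/
structure QDHyp (S : Sylow 2 H) (K : Subgroup H) : Prop where
  sylow : IsQuasiDihedral (S : Subgroup H) ∨ IsWreathed (S : Subgroup H)
  core : oddCore H = ⊥
  normal : K.Normal
  two_pow : ∃ a : ℕ, K.index = 2 ^ a
  no_two : ∀ M : Subgroup ↥K, M.index ≠ 2
  quat : ∀ P : Sylow 2 ↥K, ∃ m : ℕ, 1 ≤ m ∧ Nonempty ((P : Subgroup ↥K) ≃* QuaternionGroup (2 ^ m))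
  weak : ∀ Z₀ : Subgroup H, Z₀ ≤ ((Subgroup.center (S : Subgroup H)).map (S : Subgroup H).subtype) →
    IsWeaklyClosed Z₀ (S : Subgroup H)

/-- Two elements of a quaternion group that do not commute. -/
theorem quat_not_comm {n : ℕ} (hn : 2 ≤ n) :
    (QuaternionGroup.xa 0 : QuaternionGroup n) * QuaternionGroup.xa 1 ≠
      QuaternionGroup.xa 1 * QuaternionGroup.xa 0 := by
  intro h
  rw [QuaternionGroup.xa_mul_xa, QuaternionGroup.xa_mul_xa, QuaternionGroup.a.injEq] at h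
  have h2 : (((2 : ℕ) : ℕ) : ZMod (2 * n)) = 0 := by push_cast; linear_combination h
  have := Nat.le_of_dvd two_pos ((ZMod.natCast_eq_zero_iff _ _).1 h2)
  omega

/-- A normal subgroup of a group with trivial core has trivial core. -/
theorem oddCore_normal_eq_bot (hO : oddCore H = ⊥) (N : Subgroup H) [N.Normal] : oddCore N = ⊥ := by
  rw [← Subgroup.map_eq_bot_iff_of_injective _ N.subtype_injective, eq_bot_iff, ← hO]
  refine CfsgLib.le_oddCore ?_
  rw [Subgroup.card_map_of_injective N.subtype_injective]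
  exact CfsgLib.odd_card_oddCore

/-- A 2-subgroup is conjugate into `S`, inside every normal subgroup containing it. -/
theorem exists_conj_inf (S : Sylow 2 H) (L : Subgroup H) [L.Normal] {P : Subgroup H} (hP : IsPGroup 2 P)
    (hPL : P ≤ L) : ∃ g : H, P.map (MulAut.conj g).toMonoidHom ≤ L ⊓ (S : Subgroup H) := by
  obtain ⟨g, hg⟩ := CfsgLib.DihedralFusion.exists_conj_le (S := S) hP
  refine ⟨g, fun x hx => ⟨?_, hg hx⟩⟩
  obtain ⟨y, hy, rfl⟩ := hx
  exact (inferInstance : L.Normal).conj_mem y (hPL hy) g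

/-- A quaternion subgroup in `L` makes `L ⊓ S` nonabelian. -/
theorem not_comm_inf (S : Sylow 2 H) (L : Subgroup H) [L.Normal] {P : Subgroup L} {n : ℕ} (hn : 2 ≤ n)
    (hP : IsPGroup 2 P) (e : P ≃* QuaternionGroup n) :
    ¬ IsMulCommutative (L ⊓ (S : Subgroup H) : Subgroup H) := by
  intro hc
  obtain ⟨g, hg⟩ := exists_conj_inf S L (hP.map L.subtype) (Subgroup.map_subtype_le P)
  let j : QuaternionGroup n →* H :=
    (MulAut.conj g).toMonoidHom.comp ((L.subtype.comp P.subtype).comp e.symm.toMonoidHom)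
  have hj : Function.Injective j := (MulAut.conj g).injective.comp
    ((L.subtype_injective.comp P.subtype_injective).comp e.symm.injective)
  have hmem : ∀ q, j q ∈ L ⊓ (S : Subgroup H) := fun q => hg ⟨_, ⟨_, (e.symm q).2, rfl⟩, rfl⟩
  refine quat_not_comm hn (hj ?_)
  rw [map_mul, map_mul]
  exact congrArg Subtype.val (hc.is_comm.comm (⟨_, hmem (.xa 0)⟩ : ↥(L ⊓ (S : Subgroup H))) ⟨_, hmem (.xa 1)⟩)

/-- In a 2-group with one involution what centralises a quaternion subgroup squares to the identity. -/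
theorem sq_eq_one_of_centralize {Q : Subgroup H} (hQ : IsPGroup 2 Q) (hu : CfsgLib.Frob.UniqSub 2 Q) {n : ℕ}
    (hn : 2 ≤ n) (j : QuaternionGroup n →* H) (hj : Function.Injective j) (hjQ : ∀ q, j q ∈ Q) {a : H} (ha : a ∈ Q)
    (hc : ∀ q, a * j q = j q * a) : a * a = 1 := by
  haveI : Fact (Nat.Prime 2) := ⟨Nat.prime_two⟩
  haveI : NeZero n := ⟨by omega⟩
  have huniq : ∀ x ∈ Q, ∀ y ∈ Q, orderOf x = 2 → orderOf y = 2 → x = y := by
    intro x hx y hy ox oy
    have h := hu (Subgroup.zpowers ⟨x, hx⟩) (Subgroup.zpowers ⟨y, hy⟩)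
      (by rw [Nat.card_zpowers, Subgroup.orderOf_mk, ox]) (by rw [Nat.card_zpowers, Subgroup.orderOf_mk, oy])
    obtain ⟨k, hk⟩ := Subgroup.mem_zpowers_iff.1 (h ▸ Subgroup.mem_zpowers (⟨x, hx⟩ : Q))
    have hk' : y ^ k = x := congrArg Subtype.val hk
    rcases Int.even_or_odd' k with ⟨r, rfl | rfl⟩
    · rw [zpow_mul, show y ^ (2 : ℤ) = 1 by rw [show (2 : ℤ) = ((2 : ℕ) : ℤ) from rfl, zpow_natCast, ← oy,
        pow_orderOf_eq_one], one_zpow] at hk'
      rw [← hk', orderOf_one] at ox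
      omega
    · rw [zpow_add, zpow_mul, show y ^ (2 : ℤ) = 1 by rw [show (2 : ℤ) = ((2 : ℕ) : ℤ) from rfl, zpow_natCast,
        ← oy, pow_orderOf_eq_one], one_zpow, one_mul, zpow_one] at hk'
      exact hk'.symm
  by_contra hne
  obtain ⟨k, hk⟩ := hQ ⟨a, ha⟩
  have hk' : a ^ 2 ^ k = 1 := congrArg Subtype.val hk
  obtain ⟨i, -, hi⟩ := (Nat.dvd_prime_pow Nat.prime_two).1 (orderOf_dvd_of_pow_eq_one hk')
  have hi2 : 2 ≤ i := by
    by_contra hlt
    refine hne ?_
    rw [← sq]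
    exact orderOf_dvd_iff_pow_eq_one.1 (hi ▸ (show 2 ^ i ∣ 2 by
      rcases (show i = 0 ∨ i = 1 by omega) with rfl | rfl <;> norm_num))
  set c := a ^ 2 ^ (i - 2) with hcdef
  have hc4 : orderOf c = 4 := by
    rw [hcdef, orderOf_pow_of_dvd (by positivity) (hi ▸ Nat.pow_dvd_pow 2 (by omega)), hi,
      Nat.pow_div (by omega) two_pos, show i - (i - 2) = 2 by omega]
    norm_num
  have hcQ : c ∈ Q := pow_mem ha _
  have hcc : ∀ q, Commute c (j q) := fun q => (show Commute a (j q) from hc q).pow_left _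
  have key : ∀ r : ZMod (2 * n), j (.xa r) ∈ Subgroup.zpowers c := by
    intro r
    set d := j (.xa r) with hd
    have hd4 : orderOf d = 4 := by rw [hd, orderOf_injective j hj, QuaternionGroup.orderOf_xa]
    have hc2 : orderOf (c ^ 2) = 2 := by rw [orderOf_pow_of_dvd two_ne_zero (hc4 ▸ by norm_num), hc4]
    have hd2 : orderOf (d ^ 2) = 2 := by rw [orderOf_pow_of_dvd two_ne_zero (hd4 ▸ by norm_num), hd4]
    have he : c ^ 2 = d ^ 2 := huniq _ (pow_mem hcQ 2) _ (pow_mem (hjQ _) 2) hc2 hd2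
    have hsq : (c * d⁻¹) ^ 2 = 1 := by rw [(hcc _).inv_right.mul_pow, inv_pow, he, mul_inv_cancel]
    by_cases h1 : c * d⁻¹ = 1
    · rw [← eq_of_mul_inv_eq_one h1]; exact Subgroup.mem_zpowers c
    · have h2 : c * d⁻¹ = c ^ 2 :=
        huniq _ (mul_mem hcQ (inv_mem (hjQ _))) _ (pow_mem hcQ 2) (orderOf_eq_prime hsq h1) hc2
      rw [show d = (c ^ 2)⁻¹ * c by rw [← h2, mul_inv_rev, inv_inv, inv_mul_cancel_right]]
      exact mul_mem (inv_mem (pow_mem (Subgroup.mem_zpowers c) 2)) (Subgroup.mem_zpowers c)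
  refine quat_not_comm hn (hj ?_)
  obtain ⟨s, hs⟩ := Subgroup.mem_zpowers_iff.1 (key 0)
  obtain ⟨t, ht⟩ := Subgroup.mem_zpowers_iff.1 (key 1)
  rw [map_mul, map_mul, ← hs, ← ht]
  exact ((Commute.refl c).zpow_zpow s t).eq

namespace QDHyp

variable {S : Sylow 2 H} {K : Subgroup H} (h : QDHyp S K)

include h

/-- The center of the Sylow subgroup is central. -/
theorem center_central {z : H} (hz : z ∈ (Subgroup.center (S : Subgroup H)).map (S : Subgroup H).subtype) :
    z ∈ Subgroup.center H := by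
  rw [Subgroup.mem_center_iff]
  intro x
  obtain ⟨o, ho, c, hc, rfl⟩ := Cfsg.Agent.S1215.result S h.sylow
    ⟨⟨K, h.normal, h.two_pow, h.no_two, h.quat⟩, h.weak⟩ x
  rw [h.core, Subgroup.mem_bot] at ho
  rw [ho, one_mul]
  exact (Subgroup.mem_centralizer_iff.1 hc z hz).symm

theorem oddCore_K : oddCore K = ⊥ := by
  haveI := h.normal
  exact oddCore_normal_eq_bot h.core K

theorem exists_sylow_quat : ∃ (P : Sylow 2 ↥K) (m : ℕ), 1 ≤ m ∧
    Nonempty ((P : Subgroup ↥K) ≃* QuaternionGroup (2 ^ m)) := by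
  obtain ⟨P⟩ : Nonempty (Sylow 2 ↥K) := inferInstance
  exact ⟨P, h.quat P⟩

theorem center_K : Nat.card (Subgroup.center K) = 2 := by
  obtain ⟨P, m, hm, ⟨e⟩⟩ := h.exists_sylow_quat
  obtain ⟨k, rfl⟩ := Nat.exists_eq_add_of_le' hm
  exact Cfsg.Agent.S0201.result P k e fun N hN hodd => by
    haveI := hN
    exact le_bot_iff.mp (h.oddCore_K ▸ CfsgLib.le_oddCore hodd)

/-- The two-subgroup `K ⊓ S` has one involution. -/
theorem uniqSub_inf : CfsgLib.Frob.UniqSub 2 ↥(K ⊓ (S : Subgroup H)) := by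
  haveI : Fact (Nat.Prime 2) := ⟨Nat.prime_two⟩
  have hp : IsPGroup 2 ((K ⊓ (S : Subgroup H)).subgroupOf K) :=
    (S.2.to_le inf_le_right).of_equiv (Subgroup.subgroupOfEquivOfLe inf_le_left).symm
  obtain ⟨P, hP⟩ := hp.exists_le_sylow
  obtain ⟨m, hm, ⟨e⟩⟩ := h.quat P
  have hu : CfsgLib.Frob.UniqSub 2 (P : Subgroup K) :=
    CfsgLib.QuatSection.uniqSub_of_equiv e (CfsgLib.QuatSection.uniqSub_quaternion m)
  exact CfsgLib.QuatSection.uniqSub_of_equiv
    ((Subgroup.subgroupOfEquivOfLe inf_le_left).symm.trans (Subgroup.subgroupOfEquivOfLe hP).symm)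
    (hu.sub _)

/-- `K` and `S` generate. -/
theorem sup_eq_top : K ⊔ (S : Subgroup H) = ⊤ := by
  obtain ⟨a, ha⟩ := h.two_pow
  refine Subgroup.index_eq_one.1 ?_
  obtain ⟨i, -, hi⟩ := (Nat.dvd_prime_pow Nat.prime_two).1
    (ha ▸ Subgroup.index_dvd_of_le (le_sup_left : K ≤ K ⊔ (S : Subgroup H)))
  rcases Nat.eq_zero_or_pos i with rfl | hi0
  · simpa using hi
  · exact absurd ((dvd_pow_self 2 hi0.ne').trans (hi ▸ Subgroup.index_dvd_of_le le_sup_right)) S.not_dvd_index

theorem exists_mul (x : H) : ∃ k ∈ K, ∃ s ∈ (S : Subgroup H), x = k * s := by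
  haveI := h.normal
  have hx : x ∈ K ⊔ (S : Subgroup H) := h.sup_eq_top.symm ▸ Subgroup.mem_top x
  obtain ⟨k, hk, s, hs, e⟩ := Subgroup.mem_sup_of_normal_left.1 hx
  exact ⟨k, hk, s, hs, e.symm⟩

/-- A normal subgroup centralising a normal `L` with nonabelian Sylow subgroup and meeting `K` in two elements
is central, inside the Sylow subgroup. -/
theorem centralizer_central (L : Subgroup H) [L.Normal]
    (hLS : ¬ IsMulCommutative (L ⊓ (S : Subgroup H) : Subgroup H))
    (hT : Nat.card (Subgroup.centralizer (L : Set H) ⊓ K : Subgroup H) ∣ 2) :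
    Subgroup.centralizer (L : Set H) ≤ Subgroup.center H ∧
      Subgroup.centralizer (L : Set H) ≤ (S : Subgroup H) := by
  haveI : Fact (Nat.Prime 2) := ⟨Nat.prime_two⟩
  haveI := h.normal
  set C := Subgroup.centralizer (L : Set H) with hC
  have hCn : C.Normal := inferInstance
  obtain ⟨a, ha⟩ := h.two_pow
  have hcard : Nat.card C ∣ 2 ^ (a + 1) := by
    have h1 : Nat.card C = Nat.card (C ⊓ K : Subgroup H) * K.relIndex C := by
      rw [← (K.subgroupOf C).card_mul_index, Subgroup.relIndex]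
      congr 1
      rw [← Nat.card_congr (Subgroup.subgroupOfEquivOfLe (inf_le_left : C ⊓ K ≤ C)).toEquiv,
        Subgroup.inf_subgroupOf_left]
    rw [h1, pow_succ, mul_comm (2 ^ a)]
    exact Nat.mul_dvd_mul hT (ha ▸ Subgroup.relIndex_dvd_index_of_normal K C)
  obtain ⟨i, -, hi⟩ := (Nat.dvd_prime_pow Nat.prime_two).1 hcard
  have hCp : IsPGroup 2 C := IsPGroup.of_card hi
  have hCS : C ≤ (S : Subgroup H) := by
    intro c hc
    obtain ⟨g, hg⟩ := exists_conj_inf S C hCp le_rfl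
    have hmem : g⁻¹ * c * g ∈ C := by simpa using hCn.conj_mem c hc g⁻¹
    have e : (MulAut.conj g).toMonoidHom (g⁻¹ * c * g) = c := by
      show g * (g⁻¹ * c * g) * g⁻¹ = c
      group
    rw [← e]
    exact (hg ⟨_, hmem, rfl⟩).2
  refine ⟨fun c hc => ?_, hCS⟩
  refine h.center_central ⟨⟨c, hCS hc⟩, qdw_central h.sylow
    (X := (L ⊓ (S : Subgroup H)).subgroupOf (S : Subgroup H)) (fun hcm => hLS ?_) ?_, rfl⟩
  · refine ⟨⟨fun x y => Subtype.ext ?_⟩⟩
    exact congrArg (fun z : ↥((L ⊓ (S : Subgroup H)).subgroupOf (S : Subgroup H)) => ((z : (S : Subgroup H)) : H))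
      (hcm.is_comm.comm (⟨⟨x, x.2.2⟩, Subgroup.mem_subgroupOf.2 x.2⟩ :
        ↥((L ⊓ (S : Subgroup H)).subgroupOf (S : Subgroup H))) ⟨⟨y, y.2.2⟩, Subgroup.mem_subgroupOf.2 y.2⟩)
  · intro x hx
    exact Subtype.ext (Subgroup.mem_centralizer_iff.1 hc (x : H) (Subgroup.mem_subgroupOf.1 hx).1).symm

/-- Commutators lie in `L` as soon as those in `K` do. -/
theorem commutator_le (L : Subgroup H) [L.Normal] (hLS : ¬ IsMulCommutative (L ⊓ (S : Subgroup H) : Subgroup H))
    (hKL : ∀ a b : H, ⁅a, b⁆ ∈ K → ⁅a, b⁆ ∈ L) : commutator H ≤ L := by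
  haveI := h.normal
  set π := QuotientGroup.mk' L
  have hπ : ∀ a b : H, ⁅a, b⁆ ∈ L → Commute (π a) (π b) := fun a b hab => by
    rw [← commutatorElement_eq_one_iff_commute, ← map_commutatorElement]
    exact (QuotientGroup.eq_one_iff _).2 hab
  have hKany : ∀ k ∈ K, ∀ x : H, Commute (π k) (π x) := fun k hk x => hπ k x (hKL k x (by
    rw [commutatorElement_def, mul_assoc k, mul_assoc k]
    exact mul_mem hk (h.normal.conj_mem _ (inv_mem hk) x)))
  have hSS : ∀ s ∈ (S : Subgroup H), ∀ s' ∈ (S : Subgroup H), Commute (π s) (π s') := by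
    intro s hs s' hs'
    refine hπ s s' ?_
    haveI : ((L ⊓ (S : Subgroup H)).subgroupOf (S : Subgroup H)).Normal := by
      rw [Subgroup.inf_subgroupOf_right]; infer_instance
    have hnc : ¬ IsMulCommutative ↥((L ⊓ (S : Subgroup H)).subgroupOf (S : Subgroup H)) := fun hcm => hLS
      ⟨⟨fun x y => Subtype.ext (congrArg
        (fun z : ↥((L ⊓ (S : Subgroup H)).subgroupOf (S : Subgroup H)) => ((z : (S : Subgroup H)) : H))
        (hcm.is_comm.comm (⟨⟨x, x.2.2⟩, Subgroup.mem_subgroupOf.2 x.2⟩ :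
          ↥((L ⊓ (S : Subgroup H)).subgroupOf (S : Subgroup H))) ⟨⟨y, y.2.2⟩, Subgroup.mem_subgroupOf.2 y.2⟩))⟩⟩
    have := Subgroup.mem_subgroupOf.1 (qdw_commutator_le h.sylow hnc (⟨s, hs⟩ : (S : Subgroup H)) ⟨s', hs'⟩)
    exact this.1
  rw [commutator_def, Subgroup.commutator_le]
  intro x _ y _
  refine (QuotientGroup.eq_one_iff _).1 ?_
  show π ⁅x, y⁆ = 1
  rw [map_commutatorElement, commutatorElement_eq_one_iff_commute]
  obtain ⟨k, hk, s, hs, rfl⟩ := h.exists_mul x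
  obtain ⟨k', hk', s', hs', rfl⟩ := h.exists_mul y
  rw [map_mul, map_mul]
  exact ((hKany k hk k').mul_right (hKany k hk s')).mul_left
    (((hKany k' hk' s).symm).mul_right (hSS s hs s' hs'))

end QDHyp

end CfsgLib.GWConseq.QDCentre
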