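import Cfsg.Agent.Lib.GW.Conseq.QDCentre.Base
import Cfsg.Agent.Lib.GW.Conseq.QDCentre.AutModel
import Cfsg.Agent.Lib.GW.Model.Frame
import Cfsg.Agent.Lib.Comp.BpInherit

/-!
The non-solvable case: the last derived term of `K` is `SL(2,q)` and is the derived subgroup.
-/

set_option autoImplicit false
set_option maxHeartbeats 800000
set_option linter.unusedSectionVars false
set_option linter.style.haveILetI false

namespace CfsgLib.GWConseq.QDCentre

open Cfsg CfsgLib.GW
open scoped commutatorElement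

universe u v

variable {H : Type u} [Group H] [Finite H] {S : Sylow 2 H} {K : Subgroup H}

/-- In a 2-subgroup with one involution a subgroup of exponent two has order at most two. -/
theorem card_le_two_of_sq {X : Type v} [Group X] [Finite X] (hu : CfsgLib.Frob.UniqSub 2 X) (P : Subgroup X)
    (hP : ∀ x ∈ P, x * x = 1) : Nat.card P ≤ 2 := by
  by_cases h1 : P = ⊥
  · rw [h1, Subgroup.card_bot]; norm_num
  obtain ⟨a, ha, ha1⟩ := (Subgroup.ne_bot_iff_exists_ne_one.1 h1) |> fun ⟨x, hx⟩ =>
    (⟨x, x.2, fun e => hx (Subtype.ext e)⟩ : ∃ a ∈ P, a ≠ (1 : X))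
  have hc : ∀ {x}, x ∈ P → x ≠ 1 → Nat.card (Subgroup.zpowers x) = 2 := fun {x} hx hx1 => by
    rw [Nat.card_zpowers]
    exact orderOf_eq_prime (by rw [sq]; exact hP x hx) hx1
  refine (Nat.le_of_dvd (by norm_num) ?_)
  rw [← hc ha ha1]
  refine Subgroup.card_dvd_of_le fun x hx => ?_
  by_cases hx1 : x = 1
  · exact hx1 ▸ one_mem _
  · rw [← hu _ _ (hc hx hx1) (hc ha ha1)]; exact Subgroup.mem_zpowers x

/-- The perfect part, its model and the centraliser. -/
theorem QDHyp.big_data (h : QDHyp S K) (hGW : GWThm.{u}) (hns : ¬ Group.IsSolvable K) :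
    ∃ L : Subgroup H, L.Normal ∧ L ≤ K ∧ Group.IsPerfect L ∧ Nat.card (Subgroup.center L) = 2 ∧
      ((∃ (F : Type) (_ : Field F) (_ : Fintype F), Odd (Fintype.card F) ∧ 3 < Fintype.card F ∧
          Nonempty (L ≃* Matrix.SpecialLinearGroup (Fin 2) F)) ∨
        IsNonsplitDoubleCover L ↥(alternatingGroup (Fin 7))) ∧
      ¬ IsMulCommutative (L ⊓ (S : Subgroup H) : Subgroup H) ∧
      (Subgroup.center L).map L.subtype = Subgroup.centralizer (L : Set H) ⊓ K := by
  classical
  haveI : Fact (Nat.Prime 2) := ⟨Nat.prime_two⟩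
  haveI := h.normal
  obtain ⟨n, hn⟩ := exists_perfect_derived K
  haveI := hn
  have hne : derivedSeries K n ≠ ⊥ := fun e => hns ⟨⟨n, e⟩⟩
  haveI : (derivedSeries K n).Characteristic := derivedSeries_characteristic K n
  set L := (derivedSeries K n).map K.subtype with hL
  haveI hLn : L.Normal := inferInstance
  haveI : Group.IsPerfect L := Group.IsPerfect.map K.subtype
  have hLK : L ≤ K := Subgroup.map_subtype_le _
  have hLne : L ≠ ⊥ := fun e => hne ((Subgroup.map_eq_bot_iff_of_injective _ K.subtype_injective).1 e)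
  have hOL : oddCore L = ⊥ := oddCore_normal_eq_bot h.core L
  have huKS := h.uniqSub_inf
  -- the Sylow subgroup of `L`
  obtain ⟨P⟩ : Nonempty (Sylow 2 L) := inferInstance
  obtain ⟨c, hc⟩ := exists_conj_inf S L (P.2.map L.subtype) (Subgroup.map_subtype_le _)
  let j : (P : Subgroup L) →* ↥(K ⊓ (S : Subgroup H)) :=
    (((MulAut.conj c).toMonoidHom.comp L.subtype).comp (P : Subgroup L).subtype).codRestrict _ fun x =>
      ⟨hLK (hc ⟨_, ⟨(x : L), x.2, rfl⟩, rfl⟩).1, (hc ⟨_, ⟨(x : L), x.2, rfl⟩, rfl⟩).2⟩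
  have hj : Function.Injective j := fun a b e => by
    have e' := (MulAut.conj c).injective (congrArg Subtype.val e)
    exact Subtype.ext (Subtype.ext e')
  have hPu : CfsgLib.Frob.UniqSub 2 (P : Subgroup L) := fun A B hA hB =>
    Subgroup.map_injective (f := j) hj (huKS _ _ (by rw [Subgroup.card_map_of_injective hj, hA])
      (by rw [Subgroup.card_map_of_injective hj, hB]))
  obtain ⟨m, hm, ⟨eP⟩⟩ : ∃ m, 1 ≤ m ∧ Nonempty ((P : Subgroup L) ≃* QuaternionGroup (2 ^ m)) := by
    have hPne : ¬ IsCyclic (P : Subgroup L) := fun hcyc => hLne (by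
      have hb := sylow_eq_bot_of_cyclic P hcyc
      have h1 := P.not_dvd_index
      rw [hb, Subgroup.index_bot] at h1
      haveI := subsingleton_of_odd (X := L) (by rw [← Nat.not_even_iff_odd, even_iff_two_dvd]; exact h1)
      exact Subgroup.eq_bot_of_subsingleton L)
    rcases CfsgLib.Frob.cyclic_or_quaternion_two P.2 hPu with hcyc | ⟨m, ⟨e⟩⟩
    · exact absurd hcyc hPne
    · rcases Nat.eq_zero_or_pos m with rfl | hm
      · haveI : IsCyclic (QuaternionGroup (2 ^ 0)) := QuaternionGroup.quaternionGroup_one_isCyclic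
        exact absurd (e.isCyclic.mpr inferInstance) hPne
      · exact ⟨m, hm, ⟨e⟩⟩
  have h2m : 2 ≤ 2 ^ m := le_trans (by norm_num) (Nat.pow_le_pow_right two_pos hm)
  obtain ⟨hZ, hcases⟩ := quaternion_core_free hGW hOL P hm eP
  have hLS : ¬ IsMulCommutative (L ⊓ (S : Subgroup H) : Subgroup H) := not_comm_inf S L h2m P.2 eP
  refine ⟨L, hLn, hLK, inferInstance, hZ, hcases, hLS, ?_⟩
  -- the centraliser
  set T := Subgroup.centralizer (L : Set H) ⊓ K with hT
  haveI : T.Normal := inferInstance
  set Z := (Subgroup.center L).map L.subtype with hZdef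
  have hZT : Z ≤ T := by
    rintro _ ⟨z, hz, rfl⟩
    exact ⟨Subgroup.mem_centralizer_iff.2 fun l hl => congrArg Subtype.val (Subgroup.mem_center_iff.1 hz ⟨l, hl⟩),
      hLK z.2⟩
  have hZ2 : Nat.card Z = 2 := by rw [hZdef, Subgroup.card_map_of_injective L.subtype_injective, hZ]
  refine Subgroup.eq_of_le_of_card_ge hZT ?_
  rw [hZ2]
  -- its Sylow subgroup
  obtain ⟨R⟩ : Nonempty (Sylow 2 T) := inferInstance
  obtain ⟨d, hd⟩ := exists_conj_inf S T (R.2.map T.subtype) (Subgroup.map_subtype_le _)
  have hR : Nat.card (R : Subgroup T) ≤ 2 := by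
    set R' := ((R : Subgroup T).map T.subtype).map (MulAut.conj d).toMonoidHom with hR'
    have hR'le : R' ≤ K ⊓ (S : Subgroup H) := fun x hx => ⟨(hd hx).1.2, (hd hx).2⟩
    have h2 := card_le_two_of_sq huKS (R'.subgroupOf (K ⊓ (S : Subgroup H))) fun x hx => by
      refine Subtype.ext (sq_eq_one_of_centralize (S.2.to_le inf_le_right) huKS h2m
        ((Subgroup.subtype _).comp (j.comp eP.symm.toMonoidHom))
        ((Subgroup.subtype_injective _).comp (hj.comp eP.symm.injective))
        (fun q => (j (eP.symm q)).2) x.2 fun q => ?_)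
      have hmem : ((j (eP.symm q) : ↥(K ⊓ (S : Subgroup H))) : H) ∈ L :=
        (hc ⟨_, ⟨_, (eP.symm q).2, rfl⟩, rfl⟩).1
      exact (Subgroup.mem_centralizer_iff.1 (hd (Subgroup.mem_subgroupOf.1 hx)).1.1 _ hmem).symm
    rwa [Nat.card_congr (Subgroup.subgroupOfEquivOfLe hR'le).toEquiv, hR',
      Subgroup.card_map_of_injective (MulAut.conj d).injective, Subgroup.card_map_of_injective T.subtype_injective]
      at h2
  have hOT : oddCore T = ⊥ := oddCore_normal_eq_bot h.core T
  set Zt := Z.subgroupOf T with hZt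
  have hZt2 : Nat.card Zt = 2 := by rw [Nat.card_congr (Subgroup.subgroupOfEquivOfLe hZT).toEquiv, hZ2]
  have hZtc : Zt ≤ Subgroup.center T := by
    intro x hx
    obtain ⟨z, -, hz⟩ := Subgroup.mem_subgroupOf.1 hx
    refine Subgroup.mem_center_iff.2 fun y => Subtype.ext ?_
    show (y : H) * x = x * y
    rw [← hz]
    exact (Subgroup.mem_centralizer_iff.1 y.2.1 z z.2).symm
  haveI : Zt.Normal := ⟨fun x hx y => by
    rwa [Subgroup.mem_center_iff.1 (hZtc hx) y, mul_inv_cancel_right]⟩
  have hodd : Odd (Nat.card (T ⧸ Zt)) := by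
    rw [← Nat.not_even_iff_odd, even_iff_two_dvd]
    intro h2
    have h4 : 4 ∣ Nat.card T := by
      rw [← Zt.card_mul_index, hZt2, Subgroup.index_eq_card, show 4 = 2 * 2 from rfl]
      exact Nat.mul_dvd_mul_left 2 h2
    rw [← (R : Subgroup T).card_mul_index] at h4
    obtain ⟨i, hi⟩ := IsPGroup.iff_card.1 R.2
    have hi1 : i ≤ 1 := by
      by_contra hc'
      have := Nat.pow_le_pow_right two_pos (show 2 ≤ i by omega)
      omega
    rw [hi] at h4
    interval_cases i
    · exact R.not_dvd_index ((show 2 ∣ 4 by norm_num).trans (by simpa using h4))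
    · exact R.not_dvd_index (Nat.dvd_of_mul_dvd_mul_left two_pos (by simpa using h4))
  have htriv := core_quotient_central hOT Zt hZt2 hZtc
  have hle : (⊤ : Subgroup (T ⧸ Zt)) ≤ oddCore (T ⧸ Zt) :=
    CfsgLib.le_oddCore (by rw [Subgroup.card_top]; exact hodd)
  rw [htriv] at hle
  have h1 : Nat.card (T ⧸ Zt) = 1 := by
    rw [← Subgroup.card_top, Subgroup.card_eq_one]
    exact le_bot_iff.1 hle
  rw [← Zt.card_mul_index, Subgroup.index_eq_card, h1, hZt2]

/-- The non-solvable case. -/
theorem QDHyp.big_case (h : QDHyp S K) (hGW : GWThm.{u}) (hns : ¬ Group.IsSolvable K) :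
    Group.IsPerfect (commutator H) ∧ Subgroup.centralizer (commutator H : Set H) ≤ Subgroup.center H ∧
      ∃ (F : Type) (_ : Field F) (_ : Fintype F), Odd (Fintype.card F) ∧ 3 < Fintype.card F ∧
        Nonempty (commutator H ≃* Matrix.SpecialLinearGroup (Fin 2) F) := by
  classical
  haveI : Fact (Nat.Prime 2) := ⟨Nat.prime_two⟩
  obtain ⟨L, hLn, hLK, hperf, hZ, hcases, hLS, hT⟩ := h.big_data hGW hns
  haveI := hLn
  haveI := hperf
  have hT2 : Nat.card (Subgroup.centralizer (L : Set H) ⊓ K : Subgroup H) = 2 := by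
    rw [← hT, Subgroup.card_map_of_injective L.subtype_injective, hZ]
  obtain ⟨hCc, -⟩ := h.centralizer_central L hLS (hT2 ▸ dvd_rfl)
  rcases hcases with ⟨F, hF, hFt, hodd, h3, ⟨f⟩⟩ | ⟨-, ⟨f⟩, -⟩
  · let e : L ⧸ Subgroup.center L ≃* Matrix.ProjectiveSpecialLinearGroup (Fin 2) F :=
      QuotientGroup.congr _ _ f (CfsgLib.Comp.map_center_of_equiv f)
    have hKL : ∀ a b : H, ⁅a, b⁆ ∈ K → ⁅a, b⁆ ∈ L := by
      intro a b hab
      have h1 : action e ⁅a, b⁆ ∈ L.map (action e) := by
        rw [action_map, map_commutatorElement]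
        exact commutator_mem_inner _ _
      obtain ⟨l, hl, hle⟩ := h1
      have h2 : l⁻¹ * ⁅a, b⁆ ∈ Subgroup.centralizer (L : Set H) ⊓ K := by
        refine ⟨?_, K.mul_mem (K.inv_mem (hLK hl)) hab⟩
        rw [← action_ker e]
        show action e (l⁻¹ * ⁅a, b⁆) = 1
        rw [map_mul, map_inv, hle, inv_mul_cancel]
      rw [← hT] at h2
      have h3 := L.mul_mem hl (Subgroup.map_subtype_le _ h2)
      rwa [mul_inv_cancel_left] at h3
    have heq : commutator H = L := le_antisymm (h.commutator_le L hLS hKL) (by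
      rw [← derivedSeries_one]; exact perfect_le_derived L 1)
    rw [heq]
    exact ⟨hperf, hCc, F, hF, hFt, hodd, h3, ⟨f⟩⟩
  · exfalso
    set θ : H →* Equiv.Perm (Fin 7) := autSeven.toMonoidHom.comp (action f) with hθ
    have hpow : ∀ s : (S : Subgroup H), s ^ 4 ∈ Subgroup.center (S : Subgroup H) := by
      intro s
      obtain ⟨k, hk⟩ := S.2 s
      have h1 : θ (s : H) ^ 4 = 1 := perm_seven_pow_four (θ (s : H)) (k := k) (by
        rw [← map_pow, show (s : H) ^ 2 ^ k = 1 from congrArg Subtype.val hk, map_one])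
      have h2 : (s : H) ^ 4 ∈ Subgroup.center H := hCc (by
        rw [← action_ker f, MonoidHom.mem_ker]
        rw [← map_pow, hθ, MonoidHom.comp_apply] at h1
        exact autSeven.injective (h1.trans (map_one autSeven).symm))
      refine Subgroup.mem_center_iff.2 fun x => Subtype.ext ?_
      rw [Subgroup.coe_mul, Subgroup.coe_mul, Subgroup.coe_pow]
      exact Subgroup.mem_center_iff.1 h2 x
    -- a quaternion normal subgroup of order sixteen in `S`
    obtain ⟨P⟩ : Nonempty (Sylow 2 L) := inferInstance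
    have hLcard : Nat.card L = 5040 := by
      rw [← Subgroup.card_mul_index (Subgroup.center L), hZ, Subgroup.index, Nat.card_congr f.toEquiv,
        nat_card_alternatingGroup, Nat.card_fin]
      decide
    set N := L.subgroupOf (S : Subgroup H) with hN
    haveI : N.Normal := inferInstance
    obtain ⟨c, hc⟩ := exists_conj_inf S L (P.2.map L.subtype) (Subgroup.map_subtype_le _)
    let j : (P : Subgroup L) →* N :=
      ((((MulAut.conj c).toMonoidHom.comp L.subtype).comp (P : Subgroup L).subtype).codRestrict (S : Subgroup H)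
        fun x => (hc ⟨_, ⟨(x : L), x.2, rfl⟩, rfl⟩).2).codRestrict N fun x =>
          Subgroup.mem_subgroupOf.2 (hc ⟨_, ⟨(x : L), x.2, rfl⟩, rfl⟩).1
    have hj : Function.Injective j := fun a b e' => by
      have e2 := (MulAut.conj c).injective (congrArg (fun z : N => ((z : (S : Subgroup H)) : H)) e')
      exact Subtype.ext (Subtype.ext e2)
    have hP16 : Nat.card (P : Subgroup L) = 16 := by
      rw [Sylow.card_eq_multiplicity, hLcard]
      rw [show 5040 = 2 ^ 4 * 315 by norm_num, Nat.factorization_mul (by norm_num) (by norm_num)]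
      rw [Finsupp.add_apply, Nat.factorization_eq_zero_of_not_dvd (show ¬ 2 ∣ 315 by norm_num),
        Nat.Prime.factorization_pow Nat.prime_two, Finsupp.single_eq_same]
      norm_num
    have hN16 : Nat.card N ≤ 16 := by
      have hp : IsPGroup 2 N := S.2.to_subgroup N
      obtain ⟨i, hi⟩ := IsPGroup.iff_card.1 hp
      have hd : Nat.card N ∣ 5040 := by
        rw [← hLcard]
        exact Subgroup.card_dvd_of_injective ((((S : Subgroup H).subtype).comp N.subtype).codRestrict L
          fun x => Subgroup.mem_subgroupOf.1 x.2) fun a b e' => Subtype.ext (Subtype.ext (congrArg (fun z : L => (z : H)) e'))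
      rw [hi] at hd ⊢
      have : i ≤ 4 := by
        by_contra hc'
        exact absurd ((Nat.pow_dvd_pow 2 (show 5 ≤ i by omega)).trans hd) (by norm_num)
      exact (Nat.pow_le_pow_right two_pos this).trans (by norm_num)
    haveI := Fintype.ofFinite N
    haveI := Fintype.ofFinite (P : Subgroup L)
    have hbij : Function.Bijective j := (Fintype.bijective_iff_injective_and_card _).2 ⟨hj, by
      have h1 := Nat.card_le_card_of_injective j hj
      rw [← Nat.card_eq_fintype_card, ← Nat.card_eq_fintype_card]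
      omega⟩
    have hOL : oddCore L = ⊥ := oddCore_normal_eq_bot h.core L
    have huP : CfsgLib.Frob.UniqSub 2 (P : Subgroup L) := fun A B hA hB => by
      let i : (P : Subgroup L) →* ↥(K ⊓ (S : Subgroup H)) :=
        (((MulAut.conj c).toMonoidHom.comp L.subtype).comp (P : Subgroup L).subtype).codRestrict _ fun x =>
          ⟨hLK (hc ⟨_, ⟨(x : L), x.2, rfl⟩, rfl⟩).1, (hc ⟨_, ⟨(x : L), x.2, rfl⟩, rfl⟩).2⟩
      have hi : Function.Injective i := fun a b e' => by
        have e2 := (MulAut.conj c).injective (congrArg Subtype.val e')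
        exact Subtype.ext (Subtype.ext e2)
      exact Subgroup.map_injective (f := i) hi (h.uniqSub_inf _ _ (by rw [Subgroup.card_map_of_injective hi, hA])
        (by rw [Subgroup.card_map_of_injective hi, hB]))
    obtain ⟨e4⟩ : Nonempty ((P : Subgroup L) ≃* QuaternionGroup 4) := by
      rcases CfsgLib.Frob.cyclic_or_quaternion_two P.2 huP with hcyc | ⟨m, ⟨e⟩⟩
      · have hb := sylow_eq_bot_of_cyclic P hcyc
        rw [hb, Subgroup.card_bot] at hP16
        norm_num at hP16
      · have hcard := Nat.card_congr e.toEquiv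
        rw [hP16, CfsgLib.Quat.nat_card] at hcard
        obtain rfl : m = 2 := Nat.pow_right_injective le_rfl (show 2 ^ m = 2 ^ 2 by omega)
        exact ⟨e⟩
    exact qdw_no_sixteen h.sylow ((MulEquiv.ofBijective j hbij).symm.trans e4) hpow

end CfsgLib.GWConseq.QDCentre
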