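import Cfsg.Agent.Lib.GW.Conseq.QDCentre.Three
import Cfsg.Agent.Lib.GW.Conseq.QDCentre.Big
import Cfsg.Agent.Lib.CharTheory.Burnside
import Cfsg.Agent.Lib.SLCard
import Cfsg.Agent.S1213

/-!
Centralisers of involutions with quasi-dihedral or wreathed Sylow 2-subgroups, from the
Gorenstein–Walter theorem.

* `QDHyp.commutator_sl`, `QDHyp.unique_sl`: the derived subgroup is `SL(2,q)` and the only such normal subgroup.
* `centralizer_sl`: the same for the centraliser of an involution modulo its core.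
-/

set_option autoImplicit false
set_option linter.unusedSectionVars false
set_option linter.style.haveILetI false

namespace CfsgLib.GWConseq.QDCentre

open Cfsg CfsgLib.GW
open scoped commutatorElement

universe u

section core

variable {H : Type u} [Group H] [Finite H] {S : Sylow 2 H} {K : Subgroup H}

/-- The derived subgroup is `SL(2,q)`. -/
theorem QDHyp.commutator_sl (h : QDHyp S K) (hGW : GWThm.{u}) :
    ∃ (F : Type) (_ : Field F) (_ : Fintype F), Odd (Fintype.card F) ∧
      Nonempty (commutator H ≃* Matrix.SpecialLinearGroup (Fin 2) F) := by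
  by_cases hs : Group.IsSolvable K
  · haveI := hs
    haveI : Fact (Nat.Prime 3) := ⟨Nat.prime_three⟩
    obtain ⟨heq, ⟨f⟩⟩ := h.three_case
    exact ⟨ZMod 3, inferInstance, inferInstance, by rw [ZMod.card]; decide,
      ⟨(MulEquiv.subgroupCongr heq).trans f⟩⟩
  · obtain ⟨-, -, F, hF, hFt, hodd, -, hf⟩ := h.big_case hGW hs
    exact ⟨F, hF, hFt, hodd, hf⟩

/-- `SL(2,F)` over a field with three elements. -/
theorem sl_three_equiv {F : Type} [Field F] [Fintype F] (hF : Fintype.card F = 3) :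
    Nonempty (Matrix.SpecialLinearGroup (Fin 2) F ≃* Matrix.SpecialLinearGroup (Fin 2) (ZMod 3)) := by
  haveI : Fact (Nat.Prime 3) := ⟨Nat.prime_three⟩
  let σ : ZMod 3 ≃+* F := ZMod.ringEquivOfPrime F Nat.prime_three hF
  exact ⟨MonoidHom.toMulEquiv (Matrix.SpecialLinearGroup.map σ.symm.toRingHom)
    (Matrix.SpecialLinearGroup.map σ.toRingHom) (MonoidHom.ext fun A => by ext i j; simp)
    (MonoidHom.ext fun A => by ext i j; simp)⟩

theorem sl_not_comm {F : Type} [Field F] :
    ¬ IsMulCommutative (Matrix.SpecialLinearGroup (Fin 2) F) := by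
  intro h
  set a : Matrix.SpecialLinearGroup (Fin 2) F := ⟨!![1, 1; 0, 1], by simp [Matrix.det_fin_two]⟩ with ha
  set b : Matrix.SpecialLinearGroup (Fin 2) F := ⟨!![1, 0; 1, 1], by simp [Matrix.det_fin_two]⟩ with hb
  have e : (↑(a * b) : Matrix (Fin 2) (Fin 2) F) 0 0 = (↑(b * a) : Matrix (Fin 2) (Fin 2) F) 0 0 := by
    rw [h.is_comm.comm a b]
  rw [Matrix.SpecialLinearGroup.coe_mul, Matrix.SpecialLinearGroup.coe_mul, ha, hb] at e
  simp [Matrix.mul_apply, Fin.sum_univ_two] at e

/-- There is only one normal subgroup isomorphic to some `SL(2,q)`, `q` odd. -/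
theorem QDHyp.unique_sl (h : QDHyp S K) (hGW : GWThm.{u}) (L₁ : Subgroup H) [L₁.Normal] {F : Type} [Field F]
    [Fintype F] (hodd : Odd (Fintype.card F)) (f : L₁ ≃* Matrix.SpecialLinearGroup (Fin 2) F) :
    L₁ = commutator H := by
  classical
  haveI := h.normal
  have hncL₁ : ¬ IsMulCommutative L₁ := fun hc => sl_not_comm ⟨⟨fun a b => f.symm.injective (by
    rw [map_mul, map_mul]; exact hc.is_comm.comm _ _)⟩⟩
  have hsolv3 : Fintype.card F = 3 → Group.IsSolvable L₁ := fun h3 =>
    CfsgLib.CharTheory.isSolvable_of_card_two_primes Nat.prime_two Nat.prime_three (a := 3) (b := 1) (by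
      rw [Nat.card_congr f.toEquiv, CfsgLib.SLCard.card_SL_two, h3]; norm_num)
  have hperf : 3 < Fintype.card F → Group.IsPerfect L₁ := fun h3 => by
    haveI : Group.IsPerfect (Matrix.SpecialLinearGroup (Fin 2) F) := ⟨CfsgLib.StSL.perfect_SL2 (by omega)⟩
    exact Group.IsPerfect.ofSurjective (f := f.symm.toMonoidHom) f.symm.surjective
  have hcases : Fintype.card F = 3 ∨ 3 < Fintype.card F := by
    have := Fintype.one_lt_card (α := F)
    obtain ⟨r, hr⟩ := hodd
    omega
  by_cases hs : Group.IsSolvable K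
  · haveI := hs
    obtain ⟨heq, ⟨g⟩⟩ := h.three_case
    rw [heq]
    rcases hcases with h3 | h3
    · obtain ⟨σ⟩ := sl_three_equiv h3
      let ι : L₁ ≃* K := (f.trans σ).trans g.symm
      have hno : ∀ M : Subgroup L₁, M.index ≠ 2 := fun M hM =>
        h.no_two (M.map ι.toMonoidHom) (by
          rw [Subgroup.index_map_of_bijective ι.bijective, hM])
      obtain ⟨a, ha⟩ := h.two_pow
      obtain ⟨i, -, hi⟩ := (Nat.dvd_prime_pow Nat.prime_two).1
        (ha ▸ Subgroup.relIndex_dvd_index_of_normal K L₁)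
      have hle : L₁ ≤ K := by
        rcases Nat.eq_zero_or_pos i with rfl | hi0
        · exact Subgroup.relIndex_eq_one.1 (by simpa using hi)
        · exact absurd (CfsgLib.QDWNoTwo.no_two_power_index hno
            (inferInstance : (K.subgroupOf L₁).Normal) hi0 hi) id
      exact Subgroup.eq_of_le_of_card_ge hle (le_of_eq (Nat.card_congr ι.toEquiv).symm)
    · exfalso
      haveI := hperf h3
      have hle : L₁ ≤ K := heq ▸ (by rw [← derivedSeries_one]; exact perfect_le_derived L₁ 1)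
      haveI : Group.IsSolvable L₁ :=
        Group.isSolvable_of_isSolvable_injective (f := Subgroup.inclusion hle) (Subgroup.inclusion_injective hle)
      haveI : Nontrivial L₁ := by
        by_contra hn
        rw [not_nontrivial_iff_subsingleton] at hn
        exact hncL₁ ⟨⟨fun a b => Subsingleton.elim _ _⟩⟩
      exact Group.IsPerfect.not_isSolvable L₁ inferInstance
  · obtain ⟨hpL, hCL, F', hF', hF't, hodd', h3', ⟨f'⟩⟩ := h.big_case hGW hs
    haveI := hpL
    set L := commutator H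
    have hqs : IsQuasisimple L := by
      refine ⟨hpL, ?_⟩
      haveI : IsSimpleGroup (Matrix.ProjectiveSpecialLinearGroup (Fin 2) F') :=
        Matrix.ProjectiveSpecialLinearGroup.rank_two_simple (by rw [Nat.card_eq_fintype_card]; omega)
      exact (QuotientGroup.congr (Subgroup.center L) _ f'
        (CfsgLib.Comp.map_center_of_equiv f') :
          L ⧸ Subgroup.center L ≃* Matrix.ProjectiveSpecialLinearGroup (Fin 2) F').isSimpleGroup_congr.mpr
            inferInstance
    haveI := CfsgLib.isQuasisimple_nontrivial hqs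
    rcases hcases with h3 | h3
    · exfalso
      haveI := hsolv3 h3
      have hcen : L₁.subgroupOf L ≤ Subgroup.center L := by
        refine (quasisimple_normal_le_center_or_eq_top hqs _).resolve_right fun e => ?_
        have hle : L ≤ L₁ := Subgroup.subgroupOf_eq_top.1 e
        haveI : Group.IsSolvable L :=
          Group.isSolvable_of_isSolvable_injective (f := Subgroup.inclusion hle) (Subgroup.inclusion_injective hle)
        exact Group.IsPerfect.not_isSolvable L inferInstance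
      have hle : L₁ ≤ Subgroup.centralizer (L : Set H) := fun x hx => Subgroup.mem_centralizer_iff.2 fun l hl => by
        have hid := CfsgLib.TwoCompFour.hom_eq_id_of_central (MulAut.conjNormal (H := L) x).toMonoidHom
          (fun a => hcen (Subgroup.mem_subgroupOf.2 (by
            show x * (a : H) * x⁻¹ * (a : H)⁻¹ ∈ L₁
            rw [mul_assoc x, mul_assoc x]
            exact L₁.mul_mem hx ((inferInstance : L₁.Normal).conj_mem _ (inv_mem hx) _)))) ⟨l, hl⟩
        exact (mul_inv_eq_iff_eq_mul.1 (congrArg Subtype.val hid : x * l * x⁻¹ = l)).symm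
      refine hncL₁ ⟨⟨fun a b => Subtype.ext ?_⟩⟩
      exact (Subgroup.mem_center_iff.1 (hCL (hle b.2)) (a : H))
    · haveI := hperf h3
      have hle : L₁ ≤ L := by
        show L₁ ≤ commutator H
        rw [← derivedSeries_one]; exact perfect_le_derived L₁ 1
      refine le_antisymm hle (Subgroup.subgroupOf_eq_top.1
        ((quasisimple_normal_le_center_or_eq_top hqs (L₁.subgroupOf L)).resolve_left fun hc => hncL₁ ?_))
      exact ⟨⟨fun a b => Subtype.ext (congrArg (fun z : L => (z : H))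
        (Subgroup.mem_center_iff.1 (hc (x := ⟨b, hle b.2⟩) (Subgroup.mem_subgroupOf.2 b.2)) ⟨a, hle a.2⟩))⟩⟩

end core

/-- Quasi-dihedral and wreathed are isomorphism invariants. -/
theorem qdw_of_equiv {A : Type*} [Group A] {B : Type*} [Group B] (e : A ≃* B)
    (h : IsQuasiDihedral A ∨ IsWreathed A) : IsQuasiDihedral B ∨ IsWreathed B := by
  rcases h with ⟨n, hn, hc, x, y, hx, hy, hxy⟩ | ⟨n, hn, hc, x, y, z, hx, hxy, hd, hz, hzx⟩
  · refine Or.inl ⟨n, hn, by rw [← Nat.card_congr e.toEquiv]; exact hc, e x, e y,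
      (orderOf_injective e.toMonoidHom e.injective x).trans hx,
      (orderOf_injective e.toMonoidHom e.injective y).trans hy, ?_⟩
    rw [← map_inv, ← map_mul, ← map_mul, hxy, map_pow]
  · refine Or.inr ⟨n, hn, by rw [← Nat.card_congr e.toEquiv]; exact hc, e x, e y, e z,
      (orderOf_injective e.toMonoidHom e.injective x).trans hx,
      by rw [← map_mul, hxy, map_mul], ?_,
      (orderOf_injective e.toMonoidHom e.injective z).trans hz,
      by rw [← map_inv, ← map_mul, ← map_mul, hzx]⟩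
    rw [show e y = e.toMonoidHom y from rfl, show e x = e.toMonoidHom x from rfl, ← MonoidHom.map_zpowers,
      ← MonoidHom.map_zpowers, ← Subgroup.map_inf _ _ _ e.injective, hd, Subgroup.map_bot]

/-- The hypotheses pass to the quotient by the core. -/
theorem qdHyp_quotient {C : Type u} [Group C] [Finite C] (R : Sylow 2 C) (K : Subgroup C)
    (hR : IsQuasiDihedral (R : Subgroup C) ∨ IsWreathed (R : Subgroup C)) (hK : K.Normal)
    (hidx : ∃ a : ℕ, K.index = 2 ^ a) (hno : ∀ M : Subgroup ↥K, M.index ≠ 2)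
    (hquat : ∀ P : Sylow 2 ↥K, ∃ m : ℕ, 1 ≤ m ∧ Nonempty ((P : Subgroup ↥K) ≃* QuaternionGroup (2 ^ m)))
    (hwc : ∀ Z₀ : Subgroup C, Z₀ ≤ ((Subgroup.center (R : Subgroup C)).map (R : Subgroup C).subtype) →
      IsWeaklyClosed Z₀ (R : Subgroup C)) :
    QDHyp (R.mapSurjective (QuotientGroup.mk'_surjective (oddCore C))) (K.map (QuotientGroup.mk' (oddCore C))) := by
  classical
  haveI : Fact (Nat.Prime 2) := ⟨Nat.prime_two⟩
  set O := oddCore C with hO
  have hOodd : Odd (Nat.card O) := CfsgLib.odd_card_oddCore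
  set π := QuotientGroup.mk' O with hπdef
  have hπ : Function.Surjective π := QuotientGroup.mk'_surjective O
  set S := R.mapSurjective hπ with hS
  obtain ⟨j⟩ := sylow_quotient_odd O hOodd R
  have hinj : ∀ x ∈ (R : Subgroup C), π x = 1 → x = 1 := fun x hx h1 => by
    have hxO : x ∈ O := (QuotientGroup.eq_one_iff x).1 h1
    have hcop : (Nat.card (R : Subgroup C)).Coprime (Nat.card O) := by
      obtain ⟨k, hk⟩ := R.2.exists_card_eq
      rw [hk]
      exact Nat.Coprime.pow_left k (Nat.coprime_two_left.2 hOodd)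
    exact Subgroup.mem_bot.1 ((Subgroup.inf_eq_bot_of_coprime hcop) ▸ ⟨hx, hxO⟩)
  set f := π.subgroupMap K with hf
  have hfs : Function.Surjective f := π.subgroupMap_surjective K
  refine ⟨qdw_of_equiv j hR, CfsgLib.pPrimeCore_quotient_eq_bot 2, hK.map π hπ, ?_, fun M hM => ?_, fun P => ?_,
    fun Z₀ hZ₀ => ?_⟩
  · obtain ⟨a, ha⟩ := hidx
    obtain ⟨i, -, hi⟩ := (Nat.dvd_prime_pow Nat.prime_two).1 (ha ▸ Subgroup.index_map_dvd K hπ)
    exact ⟨i, hi⟩
  · exact hno (M.comap f) (by rw [Subgroup.index_comap_of_surjective _ hfs, hM])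
  · obtain ⟨P₀⟩ : Nonempty (Sylow 2 ↥K) := inferInstance
    obtain ⟨m, hm, ⟨e⟩⟩ := hquat P₀
    have hkin : Function.Injective (f.comp (P₀ : Subgroup K).subtype) := by
      refine (injective_iff_map_eq_one _).2 fun x hx => ?_
      have hxO : ((x : K) : C) ∈ O := (QuotientGroup.eq_one_iff _).1 (congrArg Subtype.val hx)
      obtain ⟨k, hk⟩ := P₀.2 x
      have h1 : orderOf x ∣ 2 ^ k := orderOf_dvd_of_pow_eq_one hk
      have h2 := Subgroup.orderOf_dvd_natCard O hxO
      rw [Subgroup.orderOf_coe, Subgroup.orderOf_coe] at h2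
      exact orderOf_eq_one_iff.1
        (Nat.eq_one_of_dvd_coprimes (Nat.Coprime.pow_left k (Nat.coprime_two_left.2 hOodd)) h1 h2)
    have e' : (P₀ : Subgroup K) ≃* (P₀.mapSurjective hfs : Subgroup (K.map π)) :=
      (MonoidHom.ofInjective hkin).trans (MulEquiv.subgroupCongr (by
        rw [MonoidHom.range_comp, Subgroup.range_subtype]; rfl))
    exact ⟨m, hm, ⟨((Sylow.equiv P (P₀.mapSurjective hfs)).trans e'.symm).trans e⟩⟩
  · set Z₁ := Z₀.comap π ⊓ (R : Subgroup C) with hZ₁
    have hmap : Z₁.map π = Z₀ := by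
      refine le_antisymm ?_ fun z hz => ?_
      · rintro _ ⟨x, hx, rfl⟩; exact hx.1
      · obtain ⟨x, hx, rfl⟩ : z ∈ (R : Subgroup C).map π :=
          (Sylow.coe_mapSurjective hπ R) ▸ (Subgroup.map_subtype_le _ (hZ₀ hz))
        exact ⟨x, ⟨hz, hx⟩, rfl⟩
    have hZ₁c : Z₁ ≤ (Subgroup.center (R : Subgroup C)).map (R : Subgroup C).subtype := by
      intro x hx
      refine ⟨⟨x, hx.2⟩, Subgroup.mem_center_iff.2 fun y => Subtype.ext ?_, rfl⟩
      obtain ⟨⟨z, hzS⟩, hzc, hz⟩ := hZ₀ hx.1
      have hyS : π y ∈ (S : Subgroup (C ⧸ O)) := by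
        rw [hS, Sylow.coe_mapSurjective]; exact Subgroup.mem_map_of_mem π y.2
      have h1 : π (y : C) * π x = π x * π y := by
        have := congrArg Subtype.val (Subgroup.mem_center_iff.1 hzc ⟨π y, hyS⟩)
        rw [← show z = π x from hz]
        exact this
      have h2 := hinj _ (mul_mem (mul_mem y.2 hx.2) (inv_mem (mul_mem hx.2 y.2))) (by
        rw [map_mul, map_inv, map_mul, map_mul, h1, mul_inv_cancel])
      exact mul_inv_eq_one.1 h2
    obtain ⟨hZ₁R, hw⟩ := hwc Z₁ hZ₁c
    refine ⟨fun z hz => Subgroup.map_subtype_le _ (hZ₀ hz), fun g hg => ?_⟩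
    obtain ⟨c, rfl⟩ := hπ g
    -- move a conjugate of the preimage into `R`
    set M := (R : Subgroup C) ⊔ O with hM
    have hp : IsPGroup 2 ((Z₁.map (MulAut.conj c).toMonoidHom).subgroupOf M) := by
      refine ((R.2.to_le hZ₁R).map (MulAut.conj c).toMonoidHom).comap_of_injective M.subtype M.subtype_injective
    have hle : Z₁.map (MulAut.conj c).toMonoidHom ≤ M := by
      rintro _ ⟨x, hx, rfl⟩
      have h1 : π (c * x * c⁻¹) ∈ (S : Subgroup (C ⧸ O)) := by
        refine hg ⟨π x, hmap ▸ Subgroup.mem_map_of_mem π hx, ?_⟩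
        show π c * π x * (π c)⁻¹ = _
        rw [map_mul, map_mul, map_inv]
      rw [hS, Sylow.coe_mapSurjective] at h1
      obtain ⟨r, hr, hrx⟩ := h1
      have h2 : r⁻¹ * (c * x * c⁻¹) ∈ O := (QuotientGroup.eq_one_iff _).1 (show π _ = 1 by
        rw [map_mul, map_inv, hrx, inv_mul_cancel])
      have h3 := Subgroup.mul_mem _ (Subgroup.mem_sup_left hr : r ∈ M) (Subgroup.mem_sup_right h2)
      rwa [mul_inv_cancel_left] at h3
    obtain ⟨w, hw'⟩ := CfsgLib.DihedralFusion.exists_conj_le (S := R.subtype (le_sup_left : _ ≤ M)) hp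
    obtain ⟨r, hr, o, ho, hro⟩ := Subgroup.mem_sup_of_normal_right.1 w.2
    have hle' : Z₁.map (MulAut.conj (o * c)).toMonoidHom ≤ (R : Subgroup C) := by
      rintro _ ⟨x, hx, rfl⟩
      have h1 := Subgroup.mem_subgroupOf.1 (hw' ⟨⟨c * x * c⁻¹, hle ⟨x, hx, rfl⟩⟩,
        Subgroup.mem_subgroupOf.2 ⟨x, hx, rfl⟩, rfl⟩)
      have h2 : (w : C) * (c * x * c⁻¹) * (w : C)⁻¹ ∈ (R : Subgroup C) := h1
      have h3 := Subgroup.mul_mem _ (Subgroup.mul_mem _ (Subgroup.inv_mem _ hr) h2) hr
      show o * c * x * (o * c)⁻¹ ∈ (R : Subgroup C)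
      rw [← hro] at h3
      convert h3 using 1
      group
    have heq := hw (o * c) hle'
    conv_rhs => rw [← hmap, ← heq, Subgroup.map_map]
    rw [← hmap, Subgroup.map_map]
    refine congrArg (Subgroup.map · Z₁) (MonoidHom.ext fun x => ?_)
    show π c * π x * (π c)⁻¹ = π (o * c * x * (o * c)⁻¹)
    rw [map_mul, map_mul, map_inv, map_mul, show π o = 1 from (QuotientGroup.eq_one_iff o).2 ho, one_mul]

/-- The centraliser of an involution modulo its core has derived subgroup `SL(2,q)`. -/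
theorem centralizer_sl {G : Type u} [Group G] [Finite G] (hGW : GWThm.{u}) (S : Sylow 2 G)
    (hS : IsQuasiDihedral (S : Subgroup G) ∨ IsWreathed (S : Subgroup G)) (hG : ∀ H : Subgroup G, H.index ≠ 2)
    (t : G) (ht : orderOf t = 2) :
    ∃ (F : Type) (_ : Field F) (_ : Fintype F), Odd (Fintype.card F) ∧
      Nonempty (↥(commutator (↥(Subgroup.centralizer ({t} : Set G)) ⧸
        oddCore ↥(Subgroup.centralizer ({t} : Set G)))) ≃* Matrix.SpecialLinearGroup (Fin 2) F) := by
  haveI : Fact (Nat.Prime 2) := ⟨Nat.prime_two⟩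
  set C := Subgroup.centralizer ({t} : Set G)
  obtain ⟨R, hR, ⟨K, hK, hidx, hno, hquat⟩, hwc⟩ :
      ∃ R : Sylow 2 C, Nat.card R = Nat.card S ∧ (∃ K : Subgroup C, K.Normal ∧ (∃ a : ℕ, K.index = 2 ^ a) ∧
        (∀ M : Subgroup ↥K, M.index ≠ 2) ∧
        (∀ P : Sylow 2 ↥K, ∃ m : ℕ, 1 ≤ m ∧ Nonempty ((P : Subgroup ↥K) ≃* QuaternionGroup (2 ^ m)))) ∧
        ∀ Z₀ : Subgroup C, Z₀ ≤ ((Subgroup.center (R : Subgroup C)).map (R : Subgroup C).subtype) →
          IsWeaklyClosed Z₀ (R : Subgroup C) := Cfsg.Agent.S1213.result S hS hG t ht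
  obtain ⟨g, hg⟩ := CfsgLib.DihedralFusion.exists_conj_le (S := S) (R.2.map C.subtype)
  have heq : ((R : Subgroup C).map C.subtype).map (MulAut.conj g).toMonoidHom = (S : Subgroup G) :=
    Subgroup.eq_of_le_of_card_ge hg (by
      rw [Subgroup.card_map_of_injective (MulAut.conj g).injective, Subgroup.card_map_of_injective C.subtype_injective]
      exact le_of_eq hR.symm)
  let e : (R : Subgroup C) ≃* (S : Subgroup G) :=
    (((R : Subgroup C).equivMapOfInjective C.subtype C.subtype_injective).trans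
      (((R : Subgroup C).map C.subtype).equivMapOfInjective (MulAut.conj g).toMonoidHom
        (MulAut.conj g).injective)).trans (MulEquiv.subgroupCongr heq)
  exact (qdHyp_quotient R K (qdw_of_equiv e.symm hS) hK hidx hno hquat hwc).commutator_sl hGW

/-- The unique normal `SL(2,q)`, as stated for the quotient by the core. -/
theorem exists_unique_normal_sl {H : Type u} [Group H] [Finite H] (hGW : GWThm.{u}) (S : Sylow 2 H)
    (hS : IsQuasiDihedral (S : Subgroup H) ∨ IsWreathed (S : Subgroup H)) (hO : oddCore H = ⊥)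
    (hQ : (∃ K : Subgroup H, K.Normal ∧ (∃ a : ℕ, K.index = 2 ^ a) ∧ (∀ M : Subgroup ↥K, M.index ≠ 2) ∧
        (∀ P : Sylow 2 ↥K, ∃ m : ℕ, 1 ≤ m ∧ Nonempty ((P : Subgroup ↥K) ≃* QuaternionGroup (2 ^ m)))) ∧
      (∀ Z₀ : Subgroup H, Z₀ ≤ ((Subgroup.center (S : Subgroup H)).map (S : Subgroup H).subtype) →
        IsWeaklyClosed Z₀ (S : Subgroup H))) :
    ∃ L₀ : Subgroup H, L₀.Normal ∧ (∃ (F : Type) (_ : Field F) (_ : Fintype F), Odd (Fintype.card F) ∧
        Nonempty (L₀ ≃* Matrix.SpecialLinearGroup (Fin 2) F)) ∧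
      ∀ L₁ : Subgroup H, L₁.Normal → (∃ (F : Type) (_ : Field F) (_ : Fintype F), Odd (Fintype.card F) ∧
        Nonempty (L₁ ≃* Matrix.SpecialLinearGroup (Fin 2) F)) → L₁ = L₀ := by
  obtain ⟨⟨K, hK, hidx, hno, hquat⟩, hwc⟩ := hQ
  have h : QDHyp S K := ⟨hS, hO, hK, hidx, hno, hquat, hwc⟩
  refine ⟨commutator H, inferInstance, h.commutator_sl hGW, ?_⟩
  rintro L₁ hn ⟨F, hF, hFt, hodd, ⟨f⟩⟩
  haveI := hn
  exact h.unique_sl hGW L₁ hodd f

end CfsgLib.GWConseq.QDCentre
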