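import Cfsg.Agent.Lib.DihedralCoreSLTwoThree
import Cfsg.Agent.Lib.PSolvable
import Cfsg.Agent.Lib.QDWreathedNoIndexTwo.Closed
import Cfsg.Agent.Lib.Basic

/-!
A solvable group with quaternion Sylow 2-subgroups, trivial core and no subgroup of index two is `SL(2,3)`.
-/

set_option autoImplicit false
set_option linter.unusedSectionVars false

namespace CfsgLib.GWConseq.QDCentre

open Cfsg
open CfsgLib.Quat (rotFun)

/-- The coordinates of `SL(2,3)` in a group. -/
structure ThreeFrame (K : Type*) [Group K] where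
  φ : QuaternionGroup 2 →* K
  g : K
  inj : Function.Injective φ
  range_eq : φ.range = pCore 2 K
  cent : Subgroup.centralizer (φ.range : Set K) ≤ φ.range
  g3 : g ^ 3 = 1
  rot : ∀ q, g * φ q * g⁻¹ = φ (rotFun q)
  card : Nat.card K = 24

namespace ThreeFrame

variable {K : Type*} [Group K] [Finite K] (T : ThreeFrame K)

theorem iter : ∀ (t : ℕ) (q : QuaternionGroup 2), T.g ^ t * T.φ q * (T.g ^ t)⁻¹ = T.φ (rotFun^[t] q) := by
  intro t
  induction t with
  | zero => intro q; simp
  | succ t ih =>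
    intro q
    rw [Function.iterate_succ_apply', ← T.rot, ← ih, pow_succ']; group

theorem g_pow_not_mem {t : ℕ} (ht : ¬ 3 ∣ t) : T.g ^ t ∉ T.φ.range := by
  rintro ⟨q, hq⟩
  have hq8 : q ^ 8 = 1 := (show ∀ x : QuaternionGroup 2, x ^ 8 = 1 by decide) q
  have h8 : (T.g ^ t) ^ 8 = 1 := by rw [← hq, ← map_pow, hq8, map_one]
  have h3 : (T.g ^ t) ^ 3 = 1 := by rw [← pow_mul, mul_comm, pow_mul, T.g3, one_pow]
  have h1 : T.g ^ t = 1 := orderOf_eq_one_iff.1 (Nat.eq_one_of_dvd_coprimes (show Nat.Coprime 8 3 by norm_num)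
    (orderOf_dvd_of_pow_eq_one h8) (orderOf_dvd_of_pow_eq_one h3))
  have hg : T.g = 1 := by
    haveI : Fact (Nat.Prime 3) := ⟨Nat.prime_three⟩
    by_contra hg
    have := orderOf_eq_prime (p := 3) T.g3 hg
    exact ht (this ▸ orderOf_dvd_of_pow_eq_one h1)
  have := T.rot (QuaternionGroup.a 1)
  rw [hg, one_mul, inv_one, mul_one] at this
  exact CfsgLib.Quat.rotFun_ne (T.inj this).symm

theorem decomp (k : K) : ∃ (q : QuaternionGroup 2) (t : Fin 3), k = T.φ q * T.g ^ (t : ℕ) := by
  have hinj : Function.Injective (fun u : QuaternionGroup 2 × Fin 3 => T.φ u.1 * T.g ^ (u.2 : ℕ)) := by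
    rintro ⟨q, s⟩ ⟨q', s'⟩ h
    wlog hle : (s : ℕ) ≤ s' generalizing q q' s s'
    · exact (this q' s' q s h.symm (le_of_not_ge hle)).symm
    simp only at h
    have hs : T.g ^ ((s' : ℕ) - s) = (T.φ q')⁻¹ * T.φ q := by
      rw [pow_sub _ hle, eq_inv_mul_iff_mul_eq, ← mul_assoc, ← h, mul_inv_cancel_right]
    have hs' : (s' : ℕ) = s := by
      by_contra hne
      refine T.g_pow_not_mem (t := (s' : ℕ) - s) ?_ (hs ▸ mul_mem (inv_mem ⟨q', rfl⟩) ⟨q, rfl⟩)
      intro h3
      have := s'.2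
      have := Nat.le_of_dvd (by omega) h3
      omega
    obtain rfl : s' = s := Fin.ext hs'
    rw [mul_left_inj] at h
    rw [T.inj h]
  haveI := Fintype.ofFinite K
  have hb : Function.Bijective (fun u : QuaternionGroup 2 × Fin 3 => T.φ u.1 * T.g ^ (u.2 : ℕ)) :=
    (Fintype.bijective_iff_injective_and_card _).2 ⟨hinj, by
      rw [← Nat.card_eq_fintype_card (α := K), T.card, Fintype.card_prod, QuaternionGroup.card, Fintype.card_fin]⟩
  obtain ⟨⟨q, t⟩, h⟩ := hb.2 k
  exact ⟨q, t, h.symm⟩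

include T in
theorem nonempty_equiv : Nonempty (CfsgLib.QuatSection.SL23 ≃* K) := by
  obtain ⟨θ, hθ⟩ := CfsgLib.DihedralCore.exists_sl23 T.inj T.g3 T.rot
  haveI := Fintype.ofFinite K
  refine ⟨MulEquiv.ofBijective θ ((Fintype.bijective_iff_injective_and_card _).2 ⟨hθ, ?_⟩)⟩
  rw [← Nat.card_eq_fintype_card (α := K), T.card,
    ← Fintype.card_of_bijective CfsgLib.QuatSection.slMap_bijective, Fintype.card_prod, QuaternionGroup.card,
    ZMod.card]

end ThreeFrame

/-- A group of two-power order bigger than one has a subgroup of index two. -/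
theorem card_two_pow_absurd {K : Type*} [Group K] [Finite K] (h2 : ∀ M : Subgroup K, M.index ≠ 2) {k : ℕ}
    (hk : 1 ≤ k) (hc : Nat.card K = 2 ^ k) : False :=
  CfsgLib.QDWNoTwo.no_two_power_index h2 (inferInstance : (⊥ : Subgroup K).Normal) hk (Subgroup.index_bot.trans hc)

/-- The solvable case. -/
theorem exists_threeFrame {K : Type*} [Group K] [Finite K] [Group.IsSolvable K] (hO : oddCore K = ⊥)
    (h2 : ∀ M : Subgroup K, M.index ≠ 2) (S : Sylow 2 K) {m : ℕ}
    (e : (S : Subgroup K) ≃* QuaternionGroup (2 ^ m)) : Nonempty (ThreeFrame K) := by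
  classical
  haveI : Fact (Nat.Prime 2) := ⟨Nat.prime_two⟩
  set N := pCore 2 K with hN
  have hNp : IsPGroup 2 N := isPGroup_pCore 2
  have hC : Subgroup.centralizer (N : Set K) ≤ N := CfsgLib.centralizer_pCore_le Nat.prime_two hO
  have hne : 4 ∣ Nat.card K := by
    refine dvd_trans ?_ (S : Subgroup K).card_subgroup_dvd_card
    rw [Nat.card_congr e.toEquiv, CfsgLib.Quat.nat_card]
    exact dvd_mul_right 4 _
  obtain ⟨g, hgo, hgC⟩ : ∃ g : K, Odd (orderOf g) ∧ g ∉ Subgroup.centralizer (N : Set K) := by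
    by_contra hcon
    push Not at hcon
    have h1 : ∀ g : K, Odd (orderOf g) → g = 1 := fun g hg => by
      obtain ⟨k, hk⟩ := hNp ⟨g, hC (hcon g hg)⟩
      have hk' : g ^ 2 ^ k = 1 := congrArg Subtype.val hk
      exact orderOf_eq_one_iff.1 (Nat.eq_one_of_dvd_coprimes
        (Nat.Coprime.pow_left k (Nat.coprime_two_left.2 hg)) (orderOf_dvd_of_pow_eq_one hk') dvd_rfl)
    have hK : IsPGroup 2 K := fun g => by
      obtain ⟨k, r, hr, hkr⟩ := Nat.exists_eq_two_pow_mul_odd (orderOf_pos g).ne'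
      refine ⟨k, h1 _ (hr.of_dvd_nat (orderOf_dvd_of_pow_eq_one ?_))⟩
      rw [← pow_mul, ← hkr, pow_orderOf_eq_one]
    obtain ⟨k, hk⟩ := hK.exists_card_eq
    rcases Nat.eq_zero_or_pos k with rfl | hk1
    · rw [hk] at hne
      norm_num at hne
    · exact card_two_pow_absurd h2 hk1 hk
  have hSu : CfsgLib.Frob.UniqSub 2 (S : Subgroup K) :=
    CfsgLib.QuatSection.uniqSub_of_equiv e (CfsgLib.QuatSection.uniqSub_quaternion m)
  have hNn : N.Normal := inferInstance
  have hNS : N ≤ (S : Subgroup K) := by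
    obtain ⟨P, hP⟩ := hNp.exists_le_sylow
    obtain ⟨x, hx⟩ := MulAction.exists_smul_eq K P S
    intro y hy
    rw [← hx, Sylow.coe_subgroup_smul, Subgroup.mem_pointwise_smul_iff_inv_smul_mem]
    refine hP ?_
    simpa [MulAut.conj_apply, MulAut.smul_def] using hNn.conj_mem y hy x⁻¹
  have hNu : CfsgLib.Frob.UniqSub 2 N :=
    CfsgLib.QuatSection.uniqSub_of_equiv (Subgroup.subgroupOfEquivOfLe hNS).symm
      (hSu.sub (N.subgroupOf (S : Subgroup K)))
  have hgN : g ∈ Subgroup.normalizer (N : Set K) :=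
    Subgroup.normalizer_eq_top (H := N) ▸ Subgroup.mem_top g
  obtain ⟨eN⟩ := CfsgLib.QuatSection.q8_of_moved hNp hNu hgN hgC hgo
  obtain ⟨φ, hinj, hr, hrot⟩ := CfsgLib.QuatSection.exists_param eN hgN hgC hgo
  have hN8 : Nat.card N = 8 := CfsgLib.Quat.card_of_q8 eN
  have hg3 : g ^ 3 = 1 := by
    have hmem : g ^ 3 ∈ Subgroup.centralizer (N : Set K) := by
      rw [Subgroup.mem_centralizer_iff]
      intro n hn
      rw [← hr] at hn
      obtain ⟨q, rfl⟩ := hn
      have h : g ^ 3 * φ q * (g ^ 3)⁻¹ = φ (rotFun (rotFun (rotFun q))) := by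
        rw [← hrot, ← hrot, ← hrot]; simp [pow_succ, mul_assoc]
      rw [CfsgLib.Quat.rotFun_cube, mul_inv_eq_iff_eq_mul] at h
      exact h.symm
    have h8 : (g ^ 3) ^ 8 = 1 := by
      have := pow_card_eq_one' (x := (⟨g ^ 3, hC hmem⟩ : N))
      rw [hN8] at this
      exact congrArg Subtype.val this
    exact orderOf_eq_one_iff.1 (Nat.eq_one_of_dvd_coprimes
      (show Nat.Coprime (2 ^ 3) (orderOf (g ^ 3)) from
        Nat.Coprime.pow_left 3 (Nat.coprime_two_left.2 (hgo.of_dvd_nat (orderOf_pow_dvd 3))))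
      (orderOf_dvd_of_pow_eq_one h8) dvd_rfl)
  -- the order
  have hg1 : g ≠ 1 := fun h => hgC (h ▸ one_mem _)
  haveI : Fact (Nat.Prime 3) := ⟨Nat.prime_three⟩
  have hg3o : orderOf g = 3 := orderOf_eq_prime hg3 hg1
  have h24 : 24 ∣ Nat.card K :=
    Nat.Coprime.mul_dvd_of_dvd_of_dvd (show Nat.Coprime 8 3 by norm_num)
      (hN8 ▸ N.card_subgroup_dvd_card) (hg3o ▸ orderOf_dvd_natCard g)
  have h48 : Nat.card K ∣ 48 := by
    let ψ : K →* MulAut N := MulAut.conjNormal
    have hker : Nat.card ψ.ker ∣ 2 := by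
      have hle : ψ.ker ≤ (Subgroup.center N).map N.subtype := by
        intro x hx
        have hx' : ∀ n : N, x * n * x⁻¹ = n := fun n => congrArg (fun α : MulAut N => ((α n : N) : K)) hx
        have hxC : x ∈ Subgroup.centralizer (N : Set K) :=
          Subgroup.mem_centralizer_iff.2 fun n hn => (mul_inv_eq_iff_eq_mul.1 (hx' ⟨n, hn⟩)).symm
        exact ⟨⟨x, hC hxC⟩, Subgroup.mem_center_iff.2 fun n =>
          Subtype.ext (mul_inv_eq_iff_eq_mul.1 (hx' n)).symm, rfl⟩
      refine (Subgroup.card_dvd_of_le hle).trans ?_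
      rw [Subgroup.card_map_of_injective N.subtype_injective,
        Nat.card_congr ((Subgroup.centerCongr eN)).toEquiv]
      have hcq : Subgroup.center (QuaternionGroup 2) = Subgroup.zpowers (QuaternionGroup.a 2) := by
        ext q
        rw [Subgroup.mem_center_iff]
        constructor
        · intro h
          rcases (show ∀ q : QuaternionGroup 2, (∀ r, r * q = q * r) → q = 1 ∨ q = .a 2 by decide) q h with rfl | rfl
          · exact one_mem _
          · exact Subgroup.mem_zpowers _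
        · intro h r
          have : Subgroup.zpowers (QuaternionGroup.a 2 : QuaternionGroup 2) ≤ Subgroup.center _ :=
            Subgroup.zpowers_le.2 (Subgroup.mem_center_iff.2 (by decide))
          exact Subgroup.mem_center_iff.1 (this h) r
      rw [hcq, Nat.card_zpowers]
      exact orderOf_dvd_of_pow_eq_one (by decide)
    rw [← Subgroup.card_mul_index ψ.ker, Subgroup.index_ker, show 48 = 2 * 24 from rfl]
    refine Nat.mul_dvd_mul hker ((Subgroup.card_subgroup_dvd_card _).trans ?_)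
    rw [Nat.card_congr (MulAut.congr eN).toEquiv]
    exact CfsgLib.LocalFusion.q8_card_aut_dvd
  refine ⟨⟨φ, g, hinj, hr, hr ▸ hC, hg3, hrot, ?_⟩⟩
  by_contra hne24
  have hK : Nat.card K = 48 := by
    obtain ⟨a, ha⟩ := h24
    rw [ha] at h48 hne24 ⊢
    have : a ∣ 2 := Nat.dvd_of_mul_dvd_mul_left (show 0 < 24 by norm_num) h48
    rcases (Nat.dvd_prime Nat.prime_two).1 this with rfl | rfl
    · exact absurd rfl hne24
    · rfl
  have h6 : Nat.card (K ⧸ N) = 6 := by
    have := N.card_mul_index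
    rw [hN8, hK] at this
    rw [← Subgroup.index_eq_card]
    omega
  obtain ⟨x, hx⟩ := exists_prime_orderOf_dvd_card' (G := K ⧸ N) 3 (by rw [h6]; norm_num)
  refine h2 ((Subgroup.zpowers x).comap (QuotientGroup.mk' N)) ?_
  rw [Subgroup.index_comap_of_surjective _ (QuotientGroup.mk'_surjective N)]
  have := (Subgroup.zpowers x).card_mul_index
  rw [Nat.card_zpowers, hx, h6] at this
  omega

end CfsgLib.GWConseq.QDCentre
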