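import Cfsg.Agent.Lib.QuasiDihedralClasses
import Cfsg.Agent.Lib.WreathedSubgroups
import Cfsg.Agent.Lib.QuaternionSection

/-!
Quasi-dihedral and wreathed 2-groups: facts used for the centralisers of involutions.
-/

set_option autoImplicit false
set_option linter.unusedSectionVars false

namespace CfsgLib.GWConseq.QDCentre

open Cfsg
open scoped commutatorElement

variable {S : Type*} [Group S] [Finite S]

/-- What commutes with a nonabelian subgroup is central. -/
theorem qdw_central (hS : IsQuasiDihedral S ∨ IsWreathed S) {X : Subgroup S} (hX : ¬ IsMulCommutative X) {c : S}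
    (h : ∀ x ∈ X, c * x = x * c) : c ∈ Subgroup.center S := by
  rcases hS with hS | hS
  · obtain ⟨n, -, -, d, -⟩ := CfsgLib.QD.exists_data hS
    obtain ⟨w, hw, hwX⟩ : ∃ w ∈ X, w ∉ d.X := by
      by_contra hcon
      push Not at hcon
      refine hX ⟨⟨fun a b => Subtype.ext ?_⟩⟩
      obtain ⟨i, hi⟩ := hcon a a.2
      obtain ⟨j, hj⟩ := hcon b b.2
      show (a : S) * b = b * a
      rw [← hi, ← hj]
      exact ((Commute.refl d.x).zpow_zpow i j).eq
    obtain ⟨i, rfl | rfl⟩ := CfsgLib.QD.cases_elem d w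
    · exact absurd (CfsgLib.QD.zpow_mem_X d i) hwX
    have hz := CfsgLib.QD.z_central d
    have hXle : c = d.x ^ i * d.y ∨ c = d.z * (d.x ^ i * d.y) → False := fun hc => hX ⟨⟨fun a b => Subtype.ext (by
      have key : ∀ x ∈ X, x ∈ Subgroup.centralizer ({d.x ^ i * d.y} : Set S) := by
        intro x hx
        rw [Subgroup.mem_centralizer_singleton_iff]
        have h1 : Commute c x := h x hx
        rcases hc with hc | hc
        · rw [hc] at h1; exact h1.eq.symm
        · have h2 : Commute d.z x := (Subgroup.mem_center_iff.1 hz x).symm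
          have h3 := (h2.inv_left.mul_left h1)
          rw [hc, inv_mul_cancel_left] at h3
          exact h3.eq.symm
      have hcz : ∀ y : S, Commute d.z y := fun y => (Subgroup.mem_center_iff.1 hz y).symm
      show (a : S) * b = b * a
      rcases CfsgLib.QD.mem_centralizer_cases d i (key a a.2) with e | e | e | e <;>
        rcases CfsgLib.QD.mem_centralizer_cases d i (key b b.2) with e' | e' | e' | e' <;> rw [e, e'] <;>
        first
        | simp
        | exact (hcz _).eq
        | exact ((hcz _).symm).eq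
        | exact (Commute.refl _).eq
        | exact ((Commute.refl _).mul_right (Commute.refl _)).eq
        | exact ((hcz _).symm.mul_right (Commute.refl _)).eq
        | exact (((hcz _).symm.mul_right (Commute.refl _)).symm).eq
        | exact (((Commute.refl _).mul_right (hcz _)).symm).eq)⟩⟩
    have hcC : c ∈ Subgroup.centralizer ({d.x ^ i * d.y} : Set S) :=
      Subgroup.mem_centralizer_singleton_iff.2 (h _ hw)
    rcases CfsgLib.QD.mem_centralizer_cases d i hcC with e | e | e | e
    · exact e ▸ one_mem _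
    · exact e ▸ hz
    · exact (hXle (Or.inl e)).elim
    · exact (hXle (Or.inr e)).elim
  · obtain ⟨n, -, -, d, -⟩ := CfsgLib.Wr.exists_data hS
    refine CfsgLib.Wr.central_of_commute d (X := X ⊔ Subgroup.zpowers c) (fun hc => hX ⟨⟨fun a b => Subtype.ext ?_⟩⟩)
      (Subgroup.mem_sup_right (Subgroup.mem_zpowers c)) fun x hx => ?_
    · exact congrArg (fun w : ↥(X ⊔ Subgroup.zpowers c) => (w : S)) (hc.is_comm.comm (⟨a, Subgroup.mem_sup_left a.2⟩ : ↥(X ⊔ Subgroup.zpowers c))
        ⟨b, Subgroup.mem_sup_left b.2⟩)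
    · have hle : X ⊔ Subgroup.zpowers c ≤ Subgroup.centralizer ({c} : Set S) :=
        sup_le (fun y hy => Subgroup.mem_centralizer_singleton_iff.2 (h y hy).symm)
          (Subgroup.zpowers_le.2 (Subgroup.mem_centralizer_singleton_iff.2 rfl))
      exact (Subgroup.mem_centralizer_singleton_iff.1 (hle hx)).symm

/-- A nonabelian normal subgroup contains the derived subgroup. -/
theorem qdw_commutator_le (hS : IsQuasiDihedral S ∨ IsWreathed S) {N : Subgroup S} [N.Normal]
    (hN : ¬ IsMulCommutative N) (a b : S) : ⁅a, b⁆ ∈ N := by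
  refine (QuotientGroup.eq_one_iff (N := N) _).1 ?_
  show QuotientGroup.mk' N ⁅a, b⁆ = 1
  rw [map_commutatorElement, commutatorElement_eq_one_iff_commute]
  set π := QuotientGroup.mk' N
  have hmem : ∀ {u : S}, u ∈ N → π u = 1 := fun hu => (QuotientGroup.eq_one_iff _).2 hu
  rcases hS with hS | hS
  · obtain ⟨n, -, -, d, -⟩ := CfsgLib.QD.exists_data hS
    obtain ⟨i, hi⟩ : ∃ i : ℤ, d.x ^ i * d.y ∈ N := by
      by_contra hcon
      push Not at hcon
      refine hN ⟨⟨fun a b => Subtype.ext ?_⟩⟩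
      have key : ∀ u ∈ N, ∃ i : ℤ, u = d.x ^ i := fun u hu => by
        obtain ⟨i, rfl | rfl⟩ := CfsgLib.QD.cases_elem d u
        · exact ⟨i, rfl⟩
        · exact absurd hu (hcon i)
      obtain ⟨i, hi⟩ := key a a.2
      obtain ⟨j, hj⟩ := key b b.2
      show (a : S) * b = b * a
      rw [hi, hj]
      exact ((Commute.refl d.x).zpow_zpow i j).eq
    have h1 : π d.x ^ i * π d.y = 1 := by rw [← map_zpow, ← map_mul]; exact hmem hi
    have hy : π d.y = (π d.x ^ i)⁻¹ := eq_inv_of_mul_eq_one_right h1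
    have key : ∀ u : S, ∃ k : ℤ, π u = π d.x ^ k := by
      intro u
      obtain ⟨k, rfl | rfl⟩ := CfsgLib.QD.cases_elem d u
      · exact ⟨k, map_zpow _ _ _⟩
      · exact ⟨k + -i, by rw [map_mul, map_zpow, hy, zpow_add, zpow_neg]⟩
    obtain ⟨k, hk⟩ := key a
    obtain ⟨l, hl⟩ := key b
    rw [hk, hl]
    exact (Commute.refl _).zpow_zpow k l
  · obtain ⟨n, -, -, d, -⟩ := CfsgLib.Wr.exists_data hS
    have hle : ¬ N ≤ d.U := fun hle => hN ⟨⟨fun a b => Subtype.ext (CfsgLib.Wr.U_comm d (hle a.2) (hle b.2))⟩⟩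
    obtain ⟨i, j, hv⟩ := CfsgLib.Wr.v_mem_of_not_le d hle
    have h1 : π d.x ^ i * π d.y ^ j * π d.z = 1 := by
      rw [← map_zpow, ← map_zpow, ← map_mul, ← map_mul]; exact hmem hv
    have hz : π d.z = (π d.x ^ i * π d.y ^ j)⁻¹ := eq_inv_of_mul_eq_one_right h1
    have hxy0 : Commute (π d.x) (π d.y) := (show Commute d.x d.y from d.hc).map π
    have hxy : π d.x = π d.y := by
      rw [← d.hzx, map_mul, map_mul, map_inv, hz]
      have hc : Commute (π d.x) (π d.x ^ i * π d.y ^ j) :=
        ((Commute.refl _).zpow_right i).mul_right (hxy0.zpow_right j)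
      rw [hc.inv_right.eq.symm, inv_inv, inv_mul_cancel_right]
    have key : ∀ u : S, ∃ k : ℤ, π u = π d.x ^ k := by
      intro u
      obtain ⟨k, l, rfl | rfl⟩ := CfsgLib.Wr.cases_elem d u
      · exact ⟨k + l, by rw [CfsgLib.Wr.Data.u, map_mul, map_zpow, map_zpow, ← hxy, zpow_add]⟩
      · refine ⟨k + l + -(i + j), ?_⟩
        rw [CfsgLib.Wr.Data.v, map_mul, map_mul, map_zpow, map_zpow, hz, ← hxy, ← zpow_add, ← zpow_add,
          ← zpow_neg, ← zpow_add]
    obtain ⟨k, hk⟩ := key a
    obtain ⟨l, hl⟩ := key b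
    rw [hk, hl]
    exact (Commute.refl _).zpow_zpow k l

/-- Some square is not central. -/
theorem qdw_sq_not_central (hS : IsQuasiDihedral S ∨ IsWreathed S) : ∃ s : S, s ^ 2 ∉ Subgroup.center S := by
  rcases hS with hS | hS
  · obtain ⟨n, -, -, d, -⟩ := CfsgLib.QD.exists_data hS
    refine ⟨d.x, fun h => ?_⟩
    rw [CfsgLib.QD.center_eq_zpowers d] at h
    obtain ⟨k, hk⟩ := Subgroup.mem_zpowers_iff.1 h
    rw [CfsgLib.QD.Data.z, ← zpow_mul, ← zpow_natCast, CfsgLib.QD.zpow_eq_iff] at hk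
    have h4 : (4 * (d.M : ℤ)) ∣ 2 := by
      have h8 : (4 * (d.M : ℤ)) ∣ 8 * (d.M : ℤ) := ⟨2, by ring⟩
      have := dvd_add (h8.trans hk) (dvd_mul_right (4 * (d.M : ℤ)) k)
      simpa using this
    have := Int.le_of_dvd two_pos h4
    have := d.hM
    omega
  · obtain ⟨n, -, -, d, -⟩ := CfsgLib.Wr.exists_data hS
    refine ⟨d.u 1 0, fun h => ?_⟩
    rw [← zpow_natCast, CfsgLib.Wr.u_zpow, CfsgLib.Wr.u_central_iff] at h
    have h2 : 2 * (d.h : ℤ) ∣ 2 := by simpa using h
    have := Int.le_of_dvd two_pos h2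
    have := d.h2
    omega

/-- A quaternion normal subgroup of order sixteen is impossible when all fourth powers are central. -/
theorem qdw_no_sixteen (hS : IsQuasiDihedral S ∨ IsWreathed S) {N : Subgroup S} (e : N ≃* QuaternionGroup 4)
    (h4 : ∀ s : S, s ^ 4 ∈ Subgroup.center S) : False := by
  rcases hS with hS | hS
  · obtain ⟨n, -, -, d, -⟩ := CfsgLib.QD.exists_data hS
    have hM : d.M = 1 := by
      have h := h4 d.x
      rw [CfsgLib.QD.center_eq_zpowers d] at h
      obtain ⟨k, hk⟩ := Subgroup.mem_zpowers_iff.1 h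
      rw [CfsgLib.QD.Data.z, ← zpow_mul, ← zpow_natCast, CfsgLib.QD.zpow_eq_iff] at hk
      have h8 : (4 * (d.M : ℤ)) ∣ 8 * (d.M : ℤ) := ⟨2, by ring⟩
      have h4' : (4 * (d.M : ℤ)) ∣ 4 := by
        have := dvd_add (h8.trans hk) (dvd_mul_right (4 * (d.M : ℤ)) k)
        simpa using this
      have := Int.le_of_dvd (by norm_num) h4'
      have := d.hM
      omega
    have htop : N = ⊤ := Subgroup.eq_top_of_card_eq N (by
      rw [Nat.card_congr e.toEquiv, d.hcard, hM, Nat.card_eq_fintype_card, QuaternionGroup.card])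
    have hu : CfsgLib.Frob.UniqSub 2 S := CfsgLib.QuatSection.uniqSub_of_equiv
      ((Subgroup.topEquiv.symm.trans (MulEquiv.subgroupCongr htop.symm)).trans e)
      (CfsgLib.QuatSection.uniqSub_quaternion 2)
    have h := hu (Subgroup.zpowers d.y) (Subgroup.zpowers d.z) (by rw [Nat.card_zpowers, d.hy])
      (by rw [Nat.card_zpowers, CfsgLib.QD.orderOf_z])
    exact CfsgLib.QD.y_not_mem d ((Subgroup.zpowers_le.2 (CfsgLib.QD.z_mem_X d)) (h ▸ Subgroup.mem_zpowers d.y))
  · obtain ⟨n, -, -, d, -⟩ := CfsgLib.Wr.exists_data hS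
    have hh : d.h = 2 := by
      have h := h4 (d.u 1 0)
      rw [← zpow_natCast, CfsgLib.Wr.u_zpow, CfsgLib.Wr.u_central_iff] at h
      have h' : 2 * (d.h : ℤ) ∣ 4 := by simpa using h
      have := Int.le_of_dvd (by norm_num) h'
      have := d.h2
      omega
    set a : S := ((e.symm (.a 1) : N) : S)
    set b : S := ((e.symm (.xa 0) : N) : S)
    have hab : b * a * b⁻¹ = a⁻¹ := by
      have h : (QuaternionGroup.xa 0 : QuaternionGroup 4) * .a 1 * (.xa 0)⁻¹ = (.a 1)⁻¹ := by decide
      have h' := congrArg (fun q : QuaternionGroup 4 => ((e.symm q : N) : S)) h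
      simp only [map_mul, map_inv, Subgroup.coe_mul, Subgroup.coe_inv] at h'
      exact h'
    have ha : a ^ 4 ≠ 1 := fun h => by
      have h' : (e.symm (.a 1) : N) ^ 4 = 1 := Subtype.ext (by rw [Subgroup.coe_pow]; exact h)
      rw [← map_pow, MulEquiv.map_eq_one_iff] at h'
      exact absurd h' (by decide)
    obtain ⟨i, j, hu | hv⟩ := CfsgLib.Wr.cases_elem d a
    · refine ha ?_
      rw [hu, ← zpow_natCast, CfsgLib.Wr.u_zpow, CfsgLib.Wr.u_eq_one_iff, hh]
      exact ⟨⟨i, by push_cast; ring⟩, ⟨j, by push_cast; ring⟩⟩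
    · have hc : a ^ 2 ∈ Subgroup.center S := by
        rw [hv, sq, CfsgLib.Wr.v_mul_v, CfsgLib.Wr.u_central_iff]
        exact ⟨0, by ring⟩
      have h1 : b * a ^ 2 * b⁻¹ = a ^ 2 := by rw [Subgroup.mem_center_iff.1 hc b, mul_inv_cancel_right]
      rw [← conj_pow, hab, inv_pow, inv_eq_iff_mul_eq_one, ← pow_add] at h1
      exact ha h1

end CfsgLib.GWConseq.QDCentre
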