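import Cfsg.Agent.Lib.GW.Conseq.QDCentre.Base
import Cfsg.Agent.Lib.GW.Conseq.QDCentre.Small

/-!
The solvable case: `K ≅ SL(2,3)` is the derived subgroup.
-/

set_option autoImplicit false
set_option linter.unusedSectionVars false
set_option linter.style.haveILetI false

namespace CfsgLib.GWConseq.QDCentre

open Cfsg CfsgLib.GW
open scoped commutatorElement
open CfsgLib.Quat (rotFun)

universe u

theorem q8_gen : ∀ q : QuaternionGroup 2, ∃ r r' : QuaternionGroup 2,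
    q = (r * rotFun r⁻¹) * (r' * rotFun r'⁻¹) := by decide

theorem q8_twist : ∀ q : QuaternionGroup 2, q * rotFun q * rotFun (rotFun q) = 1 →
    ∃ r : QuaternionGroup 2, q = r * rotFun r⁻¹ := by decide

theorem q8_commuting : ∀ q : QuaternionGroup 2, q * q ≠ 1 → rotFun (rotFun q) = q * rotFun q →
    ∃ t : Fin 3, q = rotFun^[t.val] (QuaternionGroup.a 1) := by decide

theorem q8_coords : ∀ q : QuaternionGroup 2, ∃ i j : Fin 4,
    q = (QuaternionGroup.xa 0 : QuaternionGroup 2) ^ j.val * (QuaternionGroup.a 1) ^ i.val := by decide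

theorem q8_center : ∀ q r : QuaternionGroup 2, r * (q * q) = q * q * r := by decide

variable {H : Type u} [Group H] [Finite H] {S : Sylow 2 H} {K : Subgroup H}

/-- The solvable case. -/
theorem QDHyp.three_case (h : QDHyp S K) [Group.IsSolvable K] :
    commutator H = K ∧ Nonempty (K ≃* Matrix.SpecialLinearGroup (Fin 2) (ZMod 3)) := by
  classical
  haveI : Fact (Nat.Prime 2) := ⟨Nat.prime_two⟩
  haveI : Fact (Nat.Prime 3) := ⟨Nat.prime_three⟩
  haveI := h.normal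
  obtain ⟨P₀, m, hm, ⟨e₀⟩⟩ := h.exists_sylow_quat
  obtain ⟨T⟩ := exists_threeFrame h.oddCore_K h.no_two P₀ e₀
  obtain ⟨θ⟩ := T.nonempty_equiv
  refine ⟨?_, ⟨θ.symm⟩⟩
  set φ : QuaternionGroup 2 →* H := K.subtype.comp T.φ with hφ
  have hφi : Function.Injective φ := K.subtype_injective.comp T.inj
  set g : H := (T.g : H) with hg
  have hφK : ∀ q, φ q ∈ K := fun q => (T.φ q).2
  have hrot : ∀ q, g * φ q * g⁻¹ = φ (rotFun q) := fun q => congrArg Subtype.val (T.rot q)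
  set N := φ.range with hN
  have hNeq : N = (pCore 2 K).map K.subtype := by rw [hN, hφ, MonoidHom.range_comp, T.range_eq]
  haveI hNn : N.Normal := hNeq ▸ inferInstance
  have hNK : N ≤ K := by rintro _ ⟨q, rfl⟩; exact hφK q
  have hN8 : Nat.card N = 8 := by
    rw [hN, ← Nat.card_congr (MonoidHom.ofInjective hφi).toEquiv, CfsgLib.Quat.nat_card]
  have hNp : IsPGroup 2 N := IsPGroup.of_card (n := 3) hN8
  have hNS : N ≤ (S : Subgroup H) := by
    obtain ⟨c, hc⟩ := exists_conj_inf S N hNp le_rfl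
    intro y hy
    have hmem : c⁻¹ * y * c ∈ N := by simpa using hNn.conj_mem y hy c⁻¹
    have e : (MulAut.conj c).toMonoidHom (c⁻¹ * y * c) = y := by
      show c * (c⁻¹ * y * c) * c⁻¹ = y
      group
    rw [← e]
    exact (hc ⟨_, hmem, rfl⟩).2
  -- the derived subgroup is inside
  have hnc : ∀ M : Subgroup H, N ≤ M → ¬ IsMulCommutative (M ⊓ (S : Subgroup H) : Subgroup H) := by
    intro M hM hc
    refine quat_not_comm le_rfl (hφi ?_)
    rw [map_mul, map_mul]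
    exact congrArg Subtype.val (hc.is_comm.comm
      (⟨φ (.xa 0), hM ⟨_, rfl⟩, hNS ⟨_, rfl⟩⟩ : ↥(M ⊓ (S : Subgroup H))) ⟨φ (.xa 1), hM ⟨_, rfl⟩, hNS ⟨_, rfl⟩⟩)
  refine le_antisymm (h.commutator_le K (hnc K hNK) fun a b hab => hab) ?_
  -- the quaternion group is inside the derived subgroup
  have hcomm : ∀ a b : H, ⁅a, b⁆ ∈ commutator H := fun a b =>
    Subgroup.commutator_mem_commutator (Subgroup.mem_top a) (Subgroup.mem_top b)
  have hrr : ∀ r, φ (r * rotFun r⁻¹) = ⁅φ r, g⁆ := fun r => by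
    rw [map_mul, ← hrot, map_inv, commutatorElement_def]
    group
  have hNd : N ≤ commutator H := by
    rintro _ ⟨q, rfl⟩
    obtain ⟨r, r', rfl⟩ := q8_gen q
    rw [map_mul, hrr, hrr]
    exact mul_mem (hcomm _ _) (hcomm _ _)
  have hdec : ∀ k ∈ K, ∃ (q : QuaternionGroup 2) (t : Fin 3), k = φ q * g ^ (t : ℕ) := fun k hk => by
    obtain ⟨q, t, e⟩ := T.decomp ⟨k, hk⟩
    exact ⟨q, t, congrArg Subtype.val e⟩
  by_contra hle
  have hgd : g ∉ commutator H := fun hgd => hle fun k hk => by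
    obtain ⟨q, t, rfl⟩ := hdec k hk
    exact mul_mem (hNd ⟨q, rfl⟩) (pow_mem hgd _)
  have hg3 : g ^ 3 = 1 := congrArg Subtype.val T.g3
  have htriv : ∀ s : H, ⁅s, g⁆ ∈ N := by
    intro s
    have hK : ⁅s, g⁆ ∈ K := by
      rw [commutatorElement_def]
      exact mul_mem (h.normal.conj_mem _ T.g.2 s) (inv_mem T.g.2)
    obtain ⟨q, t, e⟩ := hdec _ hK
    by_cases ht : (t : ℕ) = 0
    · exact ⟨q, by rw [e, ht, pow_zero, mul_one]⟩
    exfalso
    have hgt : g ^ (t : ℕ) ∈ commutator H := by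
      have := mul_mem (inv_mem (hNd ⟨q, rfl⟩)) (e ▸ hcomm s g)
      rwa [inv_mul_cancel_left] at this
    have h2 := mul_mem hgt hgt
    rcases (show (t : ℕ) = 1 ∨ (t : ℕ) = 2 by omega) with ht' | ht' <;> rw [ht'] at hgt h2
    · exact hgd (by simpa using hgt)
    · refine hgd ?_
      rw [← pow_add, show 2 + 2 = 3 + 1 from rfl, pow_succ, hg3, one_mul] at h2
      exact h2
  -- so everything in `S` is in `N C(N)`
  have hT : Nat.card (Subgroup.centralizer (N : Set H) ⊓ K : Subgroup H) ∣ 2 := by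
    have hle' : Subgroup.centralizer (N : Set H) ⊓ K ≤ Subgroup.zpowers (φ (.a 2)) := by
      rintro x ⟨hxC, hxK⟩
      have hx : (⟨x, hxK⟩ : K) ∈ Subgroup.centralizer (T.φ.range : Set K) := by
        rw [Subgroup.mem_centralizer_iff]
        rintro _ ⟨q, rfl⟩
        exact Subtype.ext (Subgroup.mem_centralizer_iff.1 hxC _ ⟨q, rfl⟩)
      obtain ⟨q, hq⟩ := T.cent hx
      have hxq : φ q = x := congrArg Subtype.val hq
      have hcq : ∀ r, r * q = q * r := fun r => hφi (by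
        rw [map_mul, map_mul, hxq]
        exact Subgroup.mem_centralizer_iff.1 hxC _ ⟨r, rfl⟩)
      rcases (show ∀ q : QuaternionGroup 2, (∀ r, r * q = q * r) → q = 1 ∨ q = .a 2 by decide) q hcq with rfl | rfl
      · rw [← hxq, map_one]; exact one_mem _
      · exact hxq ▸ Subgroup.mem_zpowers _
    refine (Subgroup.card_dvd_of_le hle').trans ?_
    rw [Nat.card_zpowers, orderOf_injective φ hφi]
    exact orderOf_dvd_of_pow_eq_one (by decide)
  have hD := h.centralizer_central N (hnc N le_rfl) hT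
  obtain ⟨s, hs⟩ := qdw_sq_not_central h.sylow
  obtain ⟨q, hq⟩ := htriv (s : H)
  have hsg : (s : H) * g * (s : H)⁻¹ = φ q * g := by
    rw [hq, commutatorElement_def, inv_mul_cancel_right]
  obtain ⟨r, rfl⟩ : ∃ r, q = r * rotFun r⁻¹ := by
    refine q8_twist q (hφi ?_)
    have h3 : ((s : H) * g * (s : H)⁻¹) ^ 3 = 1 := by rw [conj_pow, hg3, mul_one, mul_inv_cancel]
    rw [hsg] at h3
    have e : (φ q * g) ^ 3 = φ q * φ (rotFun q) * φ (rotFun (rotFun q)) * g ^ 3 := by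
      rw [← hrot (rotFun q), ← hrot q]
      simp [pow_succ, mul_assoc]
    rw [e, hg3, mul_one] at h3
    rw [map_mul, map_mul, h3, map_one]
  set s₁ := (φ r)⁻¹ * (s : H) with hs₁
  have hs₁g : s₁ * g = g * s₁ := by
    rw [hrr, commutatorElement_def] at hsg
    rw [← mul_inv_eq_iff_eq_mul, hs₁]
    calc (φ r)⁻¹ * (s : H) * g * ((φ r)⁻¹ * (s : H))⁻¹ = (φ r)⁻¹ * ((s : H) * g * (s : H)⁻¹) * φ r := by group
      _ = (φ r)⁻¹ * (φ r * g * (φ r)⁻¹ * g⁻¹ * g) * φ r := by rw [hsg]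
      _ = g := by group
  obtain ⟨q₀, hq₀⟩ : s₁ * φ (.a 1) * s₁⁻¹ ∈ N := hNn.conj_mem _ ⟨_, rfl⟩ _
  have hq₁ : s₁ * φ (.xa 0) * s₁⁻¹ = φ (rotFun q₀) := by
    rw [show (QuaternionGroup.xa 0 : QuaternionGroup 2) = rotFun (.a 1) by decide, ← hrot, ← hrot, hq₀]
    calc s₁ * (g * φ (.a 1) * g⁻¹) * s₁⁻¹ = (s₁ * g) * φ (.a 1) * (s₁ * g)⁻¹ := by group
      _ = (g * s₁) * φ (.a 1) * (g * s₁)⁻¹ := by rw [hs₁g]
      _ = g * (s₁ * φ (.a 1) * s₁⁻¹) * g⁻¹ := by group
  obtain ⟨t, ht⟩ := q8_commuting q₀ (fun e => by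
    have e' : φ (.a 1 * .a 1) = 1 := by
      have h1 := congrArg φ e
      rw [map_mul, map_one, hq₀, conj_mul, conj_eq_one_iff] at h1
      rw [map_mul]; exact h1
    exact absurd (hφi (e'.trans (map_one φ).symm)) (by decide)) (hφi (by
    rw [← hrot, ← hrot, map_mul, ← hrot, hq₀]
    have e : φ ((.a 1) * .xa 0) = g * (g * φ (.a 1) * g⁻¹) * g⁻¹ := by
      rw [hrot, hrot]; exact congrArg φ (by decide)
    have h1 : g * (g * (s₁ * φ (.a 1) * s₁⁻¹) * g⁻¹) * g⁻¹ = s₁ * (g * (g * φ (.a 1) * g⁻¹) * g⁻¹) * s₁⁻¹ := by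
      have hc : Commute (g * g) s₁ := ((show Commute g s₁ from hs₁g.symm).mul_left hs₁g.symm)
      calc g * (g * (s₁ * φ (.a 1) * s₁⁻¹) * g⁻¹) * g⁻¹
          = (g * g * s₁) * φ (.a 1) * (g * g * s₁)⁻¹ := by group
        _ = (s₁ * (g * g)) * φ (.a 1) * (s₁ * (g * g))⁻¹ := by rw [hc.eq]
        _ = _ := by group
    rw [h1, ← e, map_mul, ← conj_mul, hq₁, ← hrot, hq₀]))
  set s₂ := (g ^ t.val)⁻¹ * s₁ with hs₂
  have hiter : ∀ q, g ^ t.val * φ q * (g ^ t.val)⁻¹ = φ (rotFun^[t.val] q) := fun q =>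
    congrArg Subtype.val (T.iter t.val q)
  have hfix : ∀ x : QuaternionGroup 2, s₁ * φ x * s₁⁻¹ = φ (rotFun^[t.val] x) → s₂ * φ x * s₂⁻¹ = φ x :=
    fun x hx => by
      rw [hs₂, show (g ^ t.val)⁻¹ * s₁ * φ x * ((g ^ t.val)⁻¹ * s₁)⁻¹ =
        (g ^ t.val)⁻¹ * (s₁ * φ x * s₁⁻¹) * g ^ t.val by group, hx, ← hiter]
      group
  have hs₂C : s₂ ∈ Subgroup.centralizer (N : Set H) := by
    have h1 : Commute s₂ (φ (.a 1)) := mul_inv_eq_iff_eq_mul.1 (hfix _ (by rw [← hq₀, ht]))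
    have h2 : Commute s₂ (φ (.xa 0)) := mul_inv_eq_iff_eq_mul.1 (hfix _ (by
      rw [hq₁, ht, show (QuaternionGroup.xa 0 : QuaternionGroup 2) = rotFun (.a 1) by decide]
      exact congrArg φ ((Function.iterate_succ_apply' rotFun t.val _).symm.trans
        (Function.iterate_succ_apply rotFun t.val _))))
    rw [Subgroup.mem_centralizer_iff]
    rintro _ ⟨x, rfl⟩
    obtain ⟨i, j, rfl⟩ := q8_coords x
    rw [map_mul, map_pow, map_pow]
    exact (((h2.pow_right j.val).mul_right (h1.pow_right i.val))).eq.symm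
  -- the square is central
  obtain ⟨hcen, hs₂S⟩ : s₂ ∈ Subgroup.center H ∧ s₂ ∈ (S : Subgroup H) := ⟨hD.1 hs₂C, hD.2 hs₂C⟩
  have hk : (s : H) * s₂⁻¹ ∈ N := by
    have hkK : (s : H) * s₂⁻¹ ∈ K := by
      rw [show (s : H) = φ r * g ^ t.val * s₂ by rw [hs₂, hs₁]; group, mul_inv_cancel_right]
      exact mul_mem (hφK r) (pow_mem T.g.2 _)
    have hle' : K ⊓ (S : Subgroup H) ≤ N := by
      have hp : IsPGroup 2 (K ⊓ (S : Subgroup H) : Subgroup H) := S.2.to_le inf_le_right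
      obtain ⟨i, hi⟩ := IsPGroup.iff_card.1 hp
      refine (Subgroup.eq_of_le_of_card_ge (le_inf hNK hNS) ?_).ge
      have hd : Nat.card (K ⊓ (S : Subgroup H) : Subgroup H) ∣ 24 :=
        T.card ▸ Subgroup.card_dvd_of_le inf_le_left
      rw [hi, hN8] at *
      have : i ≤ 3 := by
        by_contra hi4
        exact absurd ((Nat.pow_dvd_pow 2 (show 4 ≤ i by omega)).trans hd) (by norm_num)
      exact (Nat.pow_le_pow_right two_pos this).trans (by norm_num)
    exact hle' ⟨hkK, Subgroup.mul_mem _ s.2 (Subgroup.inv_mem _ hs₂S)⟩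
  obtain ⟨q₁, hq₁'⟩ := hk
  refine hs (Subgroup.mem_center_iff.2 fun x => Subtype.ext ?_)
  have hzz : φ (q₁ * q₁) ∈ Subgroup.center H := hD.1 (Subgroup.mem_centralizer_iff.2 (by
    rintro _ ⟨x, rfl⟩
    rw [← map_mul, ← map_mul, q8_center q₁ x]))
  have hsd : (s : H) = φ q₁ * s₂ := by rw [hq₁', inv_mul_cancel_right]
  have hsq : (s : H) ^ 2 = φ (q₁ * q₁) * (s₂ * s₂) := by
    rw [hsd, sq, map_mul, mul_assoc, ← mul_assoc s₂, ← Subgroup.mem_center_iff.1 hcen (φ q₁)]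
    group
  have hsc : (s : H) ^ 2 ∈ Subgroup.center H := hsq ▸ mul_mem hzz (mul_mem hcen hcen)
  show (x : H) * ((s ^ 2 : (S : Subgroup H)) : H) = ((s ^ 2 : (S : Subgroup H)) : H) * x
  rw [Subgroup.coe_pow]
  exact Subgroup.mem_center_iff.1 hsc x

end CfsgLib.GWConseq.QDCentre
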